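import Groth.Agent.StalkSubrings
import Groth.Agent.NormalSch.Basic

/-!
Elements of the function field regular, or invertible, at a point; sections over opens as subrings
of the function field; sections on the intersection of two affine opens.
-/

set_option autoImplicit false
set_option backward.isDefEq.respectTransparency false
set_option linter.style.haveILetI false

universe u

open CategoryTheory CategoryTheory.Limits AlgebraicGeometry TopologicalSpace

noncomputable section

namespace Groth.Agent.DimOneAffineLib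

open StalkSubrings

/-- For separated schemes, the sections over two affine opens generate those over the intersection. -/
theorem closure_res_eq_top {X : Scheme.{u}} [X.IsSeparated] {U V : X.Opens} (hU : IsAffineOpen U)
    (hV : IsAffineOpen V) :
    Subring.closure (Set.range (X.presheaf.map (homOfLE (inf_le_left : U ⊓ V ≤ U)).op).hom ∪
      Set.range (X.presheaf.map (homOfLE (inf_le_right : U ⊓ V ≤ V)).op).hom) = ⊤ := by
  set R := Subring.closure (Set.range (X.presheaf.map (homOfLE (inf_le_left : U ⊓ V ≤ U)).op).hom ∪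
      Set.range (X.presheaf.map (homOfLE (inf_le_right : U ⊓ V ≤ V)).op).hom) with hR
  haveI : IsAffine U.toScheme := hU
  haveI : IsAffine V.toScheme := hV
  let φU : Γ(X, U) ⟶ CommRingCat.of R := CommRingCat.ofHom
    ((X.presheaf.map (homOfLE (inf_le_left : U ⊓ V ≤ U)).op).hom.codRestrict R
      fun a => Subring.subset_closure (Or.inl ⟨a, rfl⟩))
  let φV : Γ(X, V) ⟶ CommRingCat.of R := CommRingCat.ofHom
    ((X.presheaf.map (homOfLE (inf_le_right : U ⊓ V ≤ V)).op).hom.codRestrict R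
      fun a => Subring.subset_closure (Or.inr ⟨a, rfl⟩))
  let incR : CommRingCat.of R ⟶ Γ(X, U ⊓ V) := CommRingCat.ofHom R.subtype
  have hW : IsAffineOpen (U ⊓ V) := hU.inf hV
  haveI : IsAffine (U ⊓ V).toScheme := hW
  let t := terminal.from X
  let a : Spec (CommRingCat.of R) ⟶ pullback (U.ι ≫ t) (V.ι ≫ t) :=
    pullback.lift (Spec.map φU ≫ hU.isoSpec.inv) (Spec.map φV ≫ hV.isoSpec.inv) (terminal.hom_ext _ _)
  let q : (U ⊓ V).toScheme ⟶ Spec (CommRingCat.of R) := hW.isoSpec.hom ≫ Spec.map incR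
  let j : (U ⊓ V).toScheme ⟶ pullback (U.ι ≫ t) (V.ι ≫ t) :=
    (isPullback_opens_inf U V).isoPullback.hom ≫ pullback.mapDesc U.ι V.ι t
  have hj : q ≫ a = j := by
    have hl : ∀ {T : X.Opens} (hT : IsAffineOpen T) (h : U ⊓ V ≤ T) (φ : Γ(X, T) ⟶ CommRingCat.of R),
        φ ≫ incR = X.presheaf.map (homOfLE h).op →
        q ≫ Spec.map φ ≫ hT.isoSpec.inv = X.homOfLE h := by
      intro T hT h φ hφ
      rw [← cancel_mono T.ι, Scheme.homOfLE_ι]
      simp only [q, Category.assoc, ← Spec.map_comp_assoc, hφ, IsAffineOpen.isoSpec_inv_ι]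
      rw [hT.map_fromSpec hW (homOfLE h).op]
      exact hW.isoSpec_hom_fromSpec
    apply pullback.hom_ext
    · rw [Category.assoc, pullback.lift_fst, hl hU inf_le_left φU (by ext; rfl)]
      simp [j, pullback.mapDesc, (isPullback_opens_inf U V).isoPullback_hom_fst]
    · rw [Category.assoc, pullback.lift_snd, hl hV inf_le_right φV (by ext; rfl)]
      simp [j, pullback.mapDesc, (isPullback_opens_inf U V).isoPullback_hom_snd]
  haveI : IsClosedImmersion j := inferInstance
  haveI : IsClosedImmersion (q ≫ a) := hj ▸ inferInstanceAs (IsClosedImmersion j)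
  obtain ⟨-, hsurj⟩ := IsClosedImmersion.isAffine_surjective_of_isAffine (f := q ≫ a)
  rw [Scheme.Hom.comp_appTop] at hsurj
  have hq : Function.Surjective q.appTop.hom := fun y => by
    obtain ⟨z, rfl⟩ := hsurj y
    exact ⟨_, rfl⟩
  have hinc : Function.Surjective incR.hom := by
    have e : q.appTop = (Scheme.ΓSpecIso _).hom ≫ incR ≫ (Scheme.ΓSpecIso _).inv ≫ hW.isoSpec.hom.appTop := by
      rw [Scheme.Hom.comp_appTop, ← Scheme.ΓSpecIso_naturality_assoc, Iso.hom_inv_id_assoc]
    intro y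
    obtain ⟨z, hz⟩ := hq (((Scheme.ΓSpecIso _).inv ≫ hW.isoSpec.hom.appTop).hom y)
    rw [e] at hz
    exact ⟨(Scheme.ΓSpecIso _).hom.hom z,
      (ConcreteCategory.bijective_of_isIso ((Scheme.ΓSpecIso Γ(X, U ⊓ V)).inv ≫ hW.isoSpec.hom.appTop)).1 hz⟩
  refine eq_top_iff.2 fun y _ => ?_
  obtain ⟨z, rfl⟩ := hinc y
  exact z.2

variable (X : Scheme.{u}) [IsIntegral X]

/-- `k` is invertible in the local ring at `y`. -/
def Inv (y : X) (k : X.functionField) : Prop :=
  ∃ t : X.presheaf.stalk y, IsUnit t ∧ algebraMap _ X.functionField t = k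

/-- `k` lies in the maximal ideal of the local ring at `y`. -/
def Van (y : X) (k : X.functionField) : Prop :=
  ∃ t : X.presheaf.stalk y, ¬ IsUnit t ∧ algebraMap _ X.functionField t = k

variable {X}

theorem stalk_inj (y : X) : Function.Injective (algebraMap (X.presheaf.stalk y) X.functionField) :=
  IsFractionRing.injective _ _

theorem inv_or_van {y : X} {k : X.functionField} (h : k ∈ O X y) : Inv X y k ∨ Van X y k := by
  obtain ⟨t, rfl⟩ := h
  by_cases ht : IsUnit t
  · exact Or.inl ⟨t, ht, rfl⟩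
  · exact Or.inr ⟨t, ht, rfl⟩

theorem not_inv_of_van {y : X} {k : X.functionField} (h : Van X y k) : ¬ Inv X y k := by
  obtain ⟨t, ht, rfl⟩ := h
  rintro ⟨t', ht', e⟩
  exact ht (stalk_inj y e ▸ ht')

theorem Inv.mem {y : X} {k : X.functionField} (h : Inv X y k) : k ∈ O X y :=
  let ⟨t, _, e⟩ := h; ⟨t, e⟩

theorem Van.mem {y : X} {k : X.functionField} (h : Van X y k) : k ∈ O X y :=
  let ⟨t, _, e⟩ := h; ⟨t, e⟩

theorem Inv.ne_zero {y : X} {k : X.functionField} (h : Inv X y k) : k ≠ 0 := by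
  obtain ⟨t, ht, rfl⟩ := h
  exact (ht.map _).ne_zero

theorem Inv.inv {y : X} {k : X.functionField} (h : Inv X y k) : Inv X y k⁻¹ := by
  obtain ⟨t, ht, rfl⟩ := h
  obtain ⟨w, rfl⟩ := ht
  exact ⟨↑w⁻¹, w⁻¹.isUnit, (map_units_inv _ w).trans rfl⟩

theorem inv_one (y : X) : Inv X y 1 := ⟨1, isUnit_one, map_one _⟩

theorem van_zero (y : X) : Van X y 0 := ⟨0, not_isUnit_zero, map_zero _⟩

theorem Van.mul {y : X} {a b : X.functionField} (ha : Van X y a) (hb : b ∈ O X y) : Van X y (a * b) := by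
  obtain ⟨t, ht, rfl⟩ := ha
  obtain ⟨v, rfl⟩ := hb
  exact ⟨t * v, fun h => ht (isUnit_of_mul_isUnit_left h), map_mul _ _ _⟩

theorem Inv.mul {y : X} {a b : X.functionField} (ha : Inv X y a) (hb : Inv X y b) : Inv X y (a * b) := by
  obtain ⟨t, ht, rfl⟩ := ha
  obtain ⟨v, hv, rfl⟩ := hb
  exact ⟨t * v, ht.mul hv, map_mul _ _ _⟩

theorem Inv.pow {y : X} {a : X.functionField} (ha : Inv X y a) (n : ℕ) : Inv X y (a ^ n) := by
  obtain ⟨t, ht, rfl⟩ := ha
  exact ⟨t ^ n, ht.pow n, map_pow _ _ _⟩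

theorem Inv.of_mul {y : X} {a b : X.functionField} (h : Inv X y (a * b)) (ha : a ∈ O X y) (hb : b ∈ O X y) :
    Inv X y a := by
  rcases inv_or_van ha with h' | h'
  · exact h'
  · exact absurd h (not_inv_of_van (h'.mul hb))

theorem Van.add {y : X} {a b : X.functionField} (ha : Van X y a) (hb : Van X y b) : Van X y (a + b) := by
  obtain ⟨t, ht, rfl⟩ := ha
  obtain ⟨v, hv, rfl⟩ := hb
  exact ⟨t + v, IsLocalRing.nonunits_add ht hv, map_add _ _ _⟩

theorem Inv.add {y : X} {a b : X.functionField} (ha : Inv X y a) (hb : Van X y b) : Inv X y (a + b) := by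
  rcases inv_or_van (add_mem ha.mem hb.mem) with h | h
  · exact h
  · refine absurd ha (not_inv_of_van ?_)
    have := h.add (hb.mul (neg_mem (one_mem (O X y))))
    rwa [mul_neg_one, add_neg_cancel_right] at this

theorem van_of_mem_of_inv_notMem {y : X} {k : X.functionField} (h : k ∈ O X y) (h' : k⁻¹ ∉ O X y) :
    Van X y k :=
  (inv_or_van h).resolve_left fun h'' => h' h''.inv.mem

/-- The sections over `W` inside the function field. -/
def secs (W : X.Opens) [Nonempty W] : Subring X.functionField :=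
  (X.germToFunctionField W).hom.range

theorem secs_le_O {W : X.Opens} [Nonempty W] {y : X} (hy : y ∈ W) : secs W ≤ O X y := by
  rintro _ ⟨s, rfl⟩
  exact ⟨X.presheaf.germ W y hy s, Scheme.algebraMap_germ_eq_germToFunctionField (X := X) hy s⟩

theorem mem_basicOpen_iff {W : X.Opens} [Nonempty W] (s : Γ(X, W)) {y : X} (hy : y ∈ W) :
    y ∈ X.basicOpen s ↔ Inv X y (X.germToFunctionField W s) := by
  rw [Scheme.mem_basicOpen X s y hy]
  constructor
  · exact fun h => ⟨_, h, Scheme.algebraMap_germ_eq_germToFunctionField (X := X) hy s⟩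
  · rintro ⟨t, ht, e⟩
    rw [← Scheme.algebraMap_germ_eq_germToFunctionField (X := X) hy s] at e
    exact stalk_inj y e ▸ ht

theorem mem_secs {W : X.Opens} [Nonempty W] {k : X.functionField} (h : ∀ y ∈ W, k ∈ O X y) : k ∈ secs W :=
  NormalSch.exists_section W k h

theorem secs_mono {W W' : X.Opens} [Nonempty W] [Nonempty W'] (h : W ≤ W') : secs W' ≤ secs W := fun _ hk =>
  mem_secs fun _ hy => secs_le_O (h hy) hk

theorem secs_inf [X.IsSeparated] {U V : X.Opens} (hU : IsAffineOpen U) (hV : IsAffineOpen V) [Nonempty U]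
    [Nonempty V] [Nonempty (U ⊓ V : X.Opens)] : secs (U ⊓ V) ≤ secs U ⊔ secs V := by
  rintro _ ⟨s, rfl⟩
  have hs : s ∈ (⊤ : Subring Γ(X, U ⊓ V)) := trivial
  rw [← closure_res_eq_top hU hV] at hs
  refine (Subring.closure_le (t := (secs U ⊔ secs V).comap (X.germToFunctionField (U ⊓ V)).hom)).2 ?_ hs
  rintro _ (⟨a, rfl⟩ | ⟨a, rfl⟩)
  · refine (le_sup_left : secs U ≤ _) ⟨a, ?_⟩
    exact (TopCat.Presheaf.germ_res_apply X.presheaf _ _ _ a).symm
  · refine (le_sup_right : secs V ≤ _) ⟨a, ?_⟩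
    exact (TopCat.Presheaf.germ_res_apply X.presheaf _ _ _ a).symm

/-- The points at which `k` is regular form an open. -/
theorem exists_open_regular {y : X} {k : X.functionField} (h : k ∈ O X y) :
    ∃ W : X.Opens, y ∈ W ∧ ∀ z ∈ W, k ∈ O X z := by
  obtain ⟨t, rfl⟩ := h
  obtain ⟨W, hyW, s, rfl⟩ := X.presheaf.exists_germ_eq t
  haveI : Nonempty W := ⟨⟨y, hyW⟩⟩
  refine ⟨W, hyW, fun z hz => secs_le_O hz ⟨s, ?_⟩⟩
  exact (Scheme.algebraMap_germ_eq_germToFunctionField (X := X) hyW s).symm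

theorem genericPoint_mem' (W : X.Opens) [Nonempty W] : genericPoint X ∈ W := NormalSch.genericPoint_mem W

/-- In a one dimensional local ring some power of an element of the maximal ideal absorbs any denominator. -/
theorem exists_pow_mul_mem {x : X} (hdim : ringKrullDim (X.presheaf.stalk x) ≤ 1) {m : X.functionField}
    (hm : Van X x m) (k : X.functionField) : ∃ n : ℕ, m ^ n * k ∈ O X x := by
  obtain ⟨t, ht, rfl⟩ := hm
  obtain ⟨c, d, hd, rfl⟩ := IsFractionRing.div_surjective (X.presheaf.stalk x) k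
  have hd0 : d ≠ 0 := nonZeroDivisors.ne_zero hd
  haveI : Ring.KrullDimLE 1 (X.presheaf.stalk x) := Ring.krullDimLE_iff.2 hdim
  have hrad : t ∈ (Ideal.span {d}).radical := by
    rw [Ideal.radical_eq_sInf, Ideal.mem_sInf]
    rintro p ⟨hdp, hp⟩
    haveI := hp
    have hne : p ≠ ⊥ := fun h => hd0 ((Submodule.mem_bot _).1 (h ▸ hdp (Ideal.mem_span_singleton_self d)))
    rw [IsLocalRing.eq_maximalIdeal (hp.isMaximal_of_ne_bot hne)]
    exact ht
  obtain ⟨n, hn⟩ := hrad
  obtain ⟨r, hr⟩ := Ideal.mem_span_singleton.1 hn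
  refine ⟨n, r * c, ?_⟩
  have hd' : algebraMap (X.presheaf.stalk x) X.functionField d ≠ 0 := fun h =>
    hd0 (stalk_inj x (h.trans (map_zero _).symm))
  rw [← map_pow, hr, map_mul, map_mul]
  field_simp

end Groth.Agent.DimOneAffineLib
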