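import Groth.Agent.DimOneAffineLib.IntegralCase

/-!
On a separated scheme, finitely many points with one dimensional Noetherian local rings lie in an
affine open, provided quasi-compact opens have finitely many irreducible components.
-/

set_option autoImplicit false
set_option backward.isDefEq.respectTransparency false
set_option linter.style.haveILetI false

universe u

open CategoryTheory CategoryTheory.Limits AlgebraicGeometry TopologicalSpace

noncomputable section

namespace Groth.Agent.DimOneAffineLib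

variable {X : Scheme.{u}}

theorem isReduced_sub (Y : Closeds X) : IsReduced (sub Y) := by
  let I := Scheme.IdealSheafData.vanishingIdeal Y
  haveI : ∀ U : X.affineOpens, IsReduced (I.subschemeCover.openCover.X U) := fun U => by
    have hrad : (I.ideal U).IsRadical := by
      rw [Scheme.IdealSheafData.vanishingIdeal_ideal]
      exact PrimeSpectrum.isRadical_vanishingIdeal _
    have : _root_.IsReduced (Γ(X, U) ⧸ I.ideal U) :=
      (Ideal.isRadical_iff_quotient_reduced _).mp hrad
    exact (affine_isReduced_iff _).mpr this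
  exact AlgebraicGeometry.IsReduced.of_openCover _ I.subschemeCover.openCover

theorem isIntegral_sub {Y : Closeds X} (hirr : IsIrreducible (Y : Set X)) : IsIntegral (sub Y) := by
  haveI := isReduced_sub Y
  haveI : IrreducibleSpace (sub Y) := by
    haveI : IrreducibleSpace (Y : Set X) := Subtype.irreducibleSpace hirr
    have e := (subι Y).isClosedEmbedding.isEmbedding.toHomeomorph.trans (Homeomorph.setCongr (range_subι Y))
    exact e.symm.surjective.irreducibleSpace e.symm.continuous
  exact isIntegral_of_irreducibleSpace_of_isReduced _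

theorem isSeparated_of_immersion {Z : Scheme.{u}} [X.IsSeparated] (i : Z ⟶ X) [IsSeparated i] :
    Z.IsSeparated :=
  ⟨by rw [← terminal.comp_from i]; infer_instance⟩

theorem ringKrullDim_sub_le (Y : Closeds X) (z : sub Y) :
    ringKrullDim ((sub Y).presheaf.stalk z) ≤ ringKrullDim (X.presheaf.stalk (subι Y z)) :=
  ringKrullDim_le_of_surjective ((subι Y).stalkMap z).hom ((subι Y).stalkMap_surjective z)

theorem goodPiece_of_irreducible [X.IsSeparated] {S : Set X} (hS : S.Finite)
    (h : ∀ x ∈ S, IsNoetherianRing (X.presheaf.stalk x) ∧ ringKrullDim (X.presheaf.stalk x) ≤ 1)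
    {Y : Closeds X} (hirr : IsIrreducible (Y : Set X)) : GoodPiece S Y := by
  haveI := isIntegral_sub hirr
  haveI := isSeparated_of_immersion (subι Y)
  obtain ⟨U, hU, hSU⟩ := exists_affine_of_finite (X := sub Y) (subι Y ⁻¹' S)
    (hS.preimage (subι Y).isClosedEmbedding.injective.injOn) (fun z hz => by
      obtain ⟨hn, hd⟩ := h _ hz
      refine ⟨?_, (ringKrullDim_sub_le Y z).trans hd⟩
      haveI := hn
      exact isNoetherianRing_of_surjective _ _ ((subι Y).stalkMap z).hom ((subι Y).stalkMap_surjective z))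
  obtain ⟨O, hO, hOU⟩ := (subι Y).isClosedEmbedding.isInducing.isOpen_iff.1 U.isOpen
  refine ⟨⟨O, hO⟩, fun x hx => ?_, ?_⟩
  · obtain ⟨z, rfl⟩ : x ∈ Set.range (subι Y) := (range_subι Y).symm ▸ hx.2
    exact (Set.ext_iff.1 hOU z).2 (hSU hx.1)
  · rwa [show subι Y ⁻¹ᵁ ⟨O, hO⟩ = U from Opens.ext hOU]

theorem goodPiece_bot (S : Set X) : GoodPiece S (⊥ : Closeds X) :=
  ⟨⊥, fun x hx => absurd hx.2 (Set.notMem_empty x), by
    rw [Scheme.Hom.preimage_bot]; exact isAffineOpen_bot _⟩

theorem goodPiece_finset {S : Set X} (hS : S.Finite) (t : Finset (Closeds X))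
    (ht : ∀ Y ∈ t, GoodPiece S Y) : GoodPiece S (t.sup id) :=
  Finset.sup_induction (goodPiece_bot S) (fun _ ha _ hb => goodPiece_sup hS ha hb) ht

/-- The points lie in an affine open, if the space has finitely many irreducible components. -/
theorem exists_affine_of_finite_components [X.IsSeparated] (hirr : (irreducibleComponents X).Finite)
    {S : Set X} (hS : S.Finite)
    (h : ∀ x ∈ S, IsNoetherianRing (X.presheaf.stalk x) ∧ ringKrullDim (X.presheaf.stalk x) ≤ 1) :
    ∃ U : X.Opens, IsAffineOpen U ∧ S ⊆ U := by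
  classical
  let t : Finset (Closeds X) := hirr.toFinset.attach.image fun C =>
    ⟨C.1, isClosed_of_mem_irreducibleComponents C.1 (hirr.mem_toFinset.1 C.2)⟩
  have hgood : GoodPiece S (t.sup id) := goodPiece_finset hS t fun Y hY => by
    obtain ⟨C, -, rfl⟩ := Finset.mem_image.1 hY
    exact goodPiece_of_irreducible hS h (hirr.mem_toFinset.1 C.2).1
  obtain ⟨O, hSO, hO⟩ := hgood
  have hall : ∀ x : X, x ∈ t.sup id := fun x => by
    have hC := irreducibleComponent_mem_irreducibleComponents x
    have hle : (⟨irreducibleComponent x, isClosed_irreducibleComponent⟩ : Closeds X) ≤ t.sup id := by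
      refine Finset.le_sup (f := id) (Finset.mem_image.2 ⟨⟨_, hirr.mem_toFinset.2 hC⟩, Finset.mem_attach _ _, rfl⟩)
    exact hle mem_irreducibleComponent
  refine ⟨O, ?_, fun x hx => hSO ⟨hx, hall x⟩⟩
  haveI : IsAffine (subι (t.sup id) ⁻¹ᵁ O).toScheme := hO
  haveI : IsClosedImmersion (subι (t.sup id) ∣_ O) := IsZariskiLocalAtTarget.restrict (P := @IsClosedImmersion) inferInstance O
  haveI : ∀ _ : Unit, IsClosedImmersion (subι (t.sup id) ∣_ O) := fun _ => inferInstance
  show IsAffine O.toScheme
  refine S9203.result O.toScheme (fun _ : Unit => (subι (t.sup id) ⁻¹ᵁ O).toScheme)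
    (fun _ => subι (t.sup id) ∣_ O) fun x => ?_
  obtain ⟨z, hz⟩ : x.1 ∈ Set.range (subι (t.sup id)) := (range_subι _).symm ▸ hall x.1
  exact ⟨(), ⟨z, show subι (t.sup id) z ∈ O from hz.symm ▸ x.2⟩,
    Subtype.ext ((morphismRestrict_base_coe (subι (t.sup id)) O _).trans hz)⟩

/-- Version with a finiteness hypothesis on quasi-compact opens only. -/
theorem exists_affine_of_finite_dim_le_one [X.IsSeparated]
    (hirr : ∀ U : X.Opens, IsCompact (U : Set X) → (irreducibleComponents (U : Set X)).Finite)
    {S : Set X} (hS : S.Finite)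
    (h : ∀ x ∈ S, IsNoetherianRing (X.presheaf.stalk x) ∧ ringKrullDim (X.presheaf.stalk x) ≤ 1) :
    ∃ U : X.Opens, IsAffineOpen U ∧ S ⊆ U := by
  classical
  choose V hV hxV using fun x : X => exists_isAffineOpen_mem_and_subset (X := X) (x := x) (U := ⊤) trivial
  let Q : X.Opens := hS.toFinset.sup V
  have hQ : IsCompact (Q : Set X) := by
    rw [Opens.coe_finset_sup, Finset.sup_set_eq_biUnion]
    exact hS.toFinset.isCompact_biUnion fun x _ => (hV x).isCompact
  have hSQ : S ⊆ Q := fun x hx => (Finset.le_sup (f := V) (hS.mem_toFinset.2 hx)) (hxV x).1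
  haveI := isSeparated_of_immersion Q.ι
  have hirrQ : (irreducibleComponents Q.toScheme).Finite := hirr Q hQ
  obtain ⟨W, hW, hSW⟩ := exists_affine_of_finite_components (X := Q.toScheme) hirrQ
    (hS.preimage Q.ι.isOpenEmbedding.injective.injOn) (fun z hz => by
      obtain ⟨hn, hd⟩ := h _ hz
      let e := (asIso (Q.ι.stalkMap z)).commRingCatIsoToRingEquiv
      haveI := hn
      exact ⟨isNoetherianRing_of_ringEquiv _ e, (ringKrullDim_eq_of_ringEquiv e).symm.le.trans hd⟩)
  exact ⟨Q.ι ''ᵁ W, hW.image_of_isOpenImmersion Q.ι, fun x hx => ⟨⟨x, hSQ hx⟩, hSW hx, rfl⟩⟩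

end Groth.Agent.DimOneAffineLib
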