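import Groth.Agent.GrpdGenericLib.Main
import Mathlib.RingTheory.Ideal.GoingDown

/-!
Generic going down for base changes of a finite algebra to domains.
-/

set_option autoImplicit false
set_option linter.style.haveILetI false

universe u

open TensorProduct

noncomputable section

namespace Groth.Agent.DimOneAffineLib

variable {A : Type u} [CommRing A] [IsNoetherianRing A] (C : Type u) [CommRing C] [Algebra A C] [Module.Finite A C]

/-- Generic flatness, after any base change. -/
theorem exists_flat_baseChange (p : Ideal A) [p.IsPrime] : ∃ g ∉ p, ∀ (R : Type u) [CommRing R] [Algebra A R],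
    p ≤ RingHom.ker (algebraMap A R) → IsUnit (algebraMap A R g) → Module.Flat R (R ⊗[A] C) := by
  let B := A ⧸ p
  let CB := B ⊗[A] C
  haveI : Module.FinitePresentation A C := Module.finitePresentation_of_finite A C
  haveI : Module.FinitePresentation B CB := inferInstance
  have hfree : (⟨⊥, Ideal.isPrime_bot⟩ : PrimeSpectrum B) ∈ Module.freeLocus B CB :=
    GrpdGenericLib.free_of_minimal CB _ fun q hq => PrimeSpectrum.ext (le_bot_iff.1 hq)
  obtain ⟨_, ⟨_, ⟨gb, rfl⟩, rfl⟩, hgb, hsub⟩ := PrimeSpectrum.isBasis_basic_opens.exists_subset_of_mem_open hfree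
    (Module.isOpen_freeLocus (R := B) (M := CB))
  haveI hproj := Module.basicOpen_subset_freeLocus_iff.1 hsub
  let B' := Localization.Away gb
  haveI : Module.Flat B' (B' ⊗[B] CB) := Module.Flat.of_linearEquiv
    (LocalizedModule.equivTensorProduct (Submonoid.powers gb) CB).symm
  haveI : Module.Flat B' (B' ⊗[A] C) :=
    Module.Flat.of_linearEquiv (TensorProduct.AlgebraTensorModule.cancelBaseChange A B B' B' C).symm
  obtain ⟨g, rfl⟩ := Ideal.Quotient.mk_surjective gb
  refine ⟨g, fun h => hgb (Ideal.Quotient.eq_zero_iff_mem.2 h ▸ Ideal.zero_mem _), fun R _ _ hker hu => ?_⟩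
  let φ : B →+* R := Ideal.Quotient.lift p (algebraMap A R) fun a ha => hker ha
  letI : Algebra B' R := (IsLocalization.Away.lift (g := φ) (Ideal.Quotient.mk p g)
    (show IsUnit (φ (Ideal.Quotient.mk p g)) from hu) : B' →+* R).toAlgebra
  haveI : IsScalarTower A B' R := .of_algebraMap_eq fun a => by
    rw [IsScalarTower.algebraMap_apply A B B']
    exact ((IsLocalization.Away.lift_eq (S := B') _ _ _).trans (Ideal.Quotient.lift_mk p _ _)).symm
  exact Module.Flat.of_linearEquiv (TensorProduct.AlgebraTensorModule.cancelBaseChange A B' R R C).symm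

/-- Generic going down, after base change to any domain. -/
theorem exists_goingDown_baseChange (p : Ideal A) [p.IsPrime] : ∃ g ∉ p,
    ∀ (A' : Type u) [CommRing A'] [IsDomain A'] [Algebra A A'], p ≤ RingHom.ker (algebraMap A A') →
      ∀ Z : PrimeSpectrum (A' ⊗[A] C),
        algebraMap A A' g ∉ (Z.comap (algebraMap A' (A' ⊗[A] C))).asIdeal →
        ∃ Z₀ : PrimeSpectrum (A' ⊗[A] C), Z₀ ≤ Z ∧ Z₀.asIdeal.comap (algebraMap A' (A' ⊗[A] C)) = ⊥ := by
  obtain ⟨g, hg, hflat⟩ := exists_flat_baseChange C p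
  refine ⟨g, hg, fun A' _ _ _ hker Z hgZ => ?_⟩
  set g' := algebraMap A A' g with hg'
  have hg0 : g' ≠ 0 := fun h => hgZ (h ▸ Ideal.zero_mem _)
  let A'' := Localization.Away g'
  haveI : IsDomain A'' := IsLocalization.isDomain_localization (powers_le_nonZeroDivisors_of_noZeroDivisors hg0)
  have hinj : Function.Injective (algebraMap A' A'') :=
    IsLocalization.injective A'' (powers_le_nonZeroDivisors_of_noZeroDivisors hg0)
  haveI : Module.Flat A'' (A'' ⊗[A] C) := hflat A''
    (fun a ha => by
      rw [RingHom.mem_ker, IsScalarTower.algebraMap_apply A A' A'', RingHom.mem_ker.1 (hker ha), map_zero])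
    (by rw [IsScalarTower.algebraMap_apply A A' A'']; exact IsLocalization.Away.algebraMap_isUnit g')
  let K := Z.asIdeal.ResidueField
  let π : A' ⊗[A] C →+* K := algebraMap _ K
  have hu : IsUnit (π.comp (algebraMap A' (A' ⊗[A] C)) g') := by
    refine isUnit_iff_ne_zero.2 fun h => hgZ ?_
    have h' : algebraMap A' (A' ⊗[A] C) g' ∈ RingHom.ker π := h
    rw [Ideal.ker_algebraMap_residueField] at h'
    exact h'
  let α : A'' →+* K := IsLocalization.Away.lift (g := π.comp (algebraMap A' (A' ⊗[A] C))) g' hu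
  let αA : A'' →ₐ[A] K := { α with
    commutes' := fun a => by
      show α (algebraMap A A'' a) = _
      rw [IsScalarTower.algebraMap_apply A A' A'', IsLocalization.Away.lift_eq]
      show π (algebraMap A' (A' ⊗[A] C) (algebraMap A A' a)) = π (algebraMap A (A' ⊗[A] C) a)
      rw [← IsScalarTower.algebraMap_apply]
      exact (IsScalarTower.algebraMap_apply A (A' ⊗[A] C) K a).symm }
  let β : C →ₐ[A] K := { π.comp (Algebra.TensorProduct.includeRight : C →ₐ[A] A' ⊗[A] C).toRingHom with
    commutes' := fun a => by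
      show π ((Algebra.TensorProduct.includeRight : C →ₐ[A] A' ⊗[A] C) (algebraMap A C a)) = _
      rw [AlgHom.commutes]
      exact (IsScalarTower.algebraMap_apply A (A' ⊗[A] C) K a).symm }
  let χ : A'' ⊗[A] C →ₐ[A] K := Algebra.TensorProduct.lift αA β fun _ _ => Commute.all _ _
  let φ : A' ⊗[A] C →ₐ[A] A'' ⊗[A] C :=
    Algebra.TensorProduct.map (IsScalarTower.toAlgHom A A' A'') (AlgHom.id A C)
  have hχ : χ.toRingHom.comp φ.toRingHom = π := by
    refine RingHom.ext fun z => ?_
    induction z using TensorProduct.induction_on with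
    | zero => simp
    | tmul a c =>
      show χ (φ (a ⊗ₜ c)) = π (a ⊗ₜ c)
      simp only [φ, χ, Algebra.TensorProduct.map_tmul, Algebra.TensorProduct.lift_tmul]
      show α (algebraMap A' A'' a) * π (1 ⊗ₜ c) = π (a ⊗ₜ c)
      rw [IsLocalization.Away.lift_eq, RingHom.comp_apply, ← map_mul]
      simp [Algebra.TensorProduct.algebraMap_apply]
    | add x y hx hy => simp only [map_add, hx, hy]
  let Z'' : PrimeSpectrum (A'' ⊗[A] C) := ⟨RingHom.ker χ.toRingHom, RingHom.ker_isPrime _⟩
  have hZ : Z''.comap φ.toRingHom = Z := by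
    refine PrimeSpectrum.ext ?_
    show (RingHom.ker χ.toRingHom).comap φ.toRingHom = Z.asIdeal
    rw [RingHom.comap_ker, hχ, Ideal.ker_algebraMap_residueField]
  haveI : Z''.asIdeal.IsPrime := Z''.isPrime
  obtain ⟨Q, hQ, hQp, hQl⟩ := Ideal.exists_ideal_le_liesOver_of_le (R := A'') (p := ⊥)
    (q := Z''.asIdeal.under A'') Z''.asIdeal bot_le
  refine ⟨PrimeSpectrum.comap φ.toRingHom ⟨Q, hQp⟩, hZ ▸ Ideal.comap_mono hQ, ?_⟩
  rw [PrimeSpectrum.comap_asIdeal, Ideal.comap_comap]
  have e : φ.toRingHom.comp (algebraMap A' (A' ⊗[A] C)) = (algebraMap A'' (A'' ⊗[A] C)).comp (algebraMap A' A'') :=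
    RingHom.ext fun a => by
      show φ (a ⊗ₜ 1) = algebraMap A' A'' a ⊗ₜ 1
      simp [φ]
  rw [e, ← Ideal.comap_comap, show Q.comap (algebraMap A'' (A'' ⊗[A] C)) = ⊥ from hQl.over.symm,
    ← RingHom.ker_eq_comap_bot, (RingHom.injective_iff_ker_eq_bot _).1 hinj]

end Groth.Agent.DimOneAffineLib
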