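import Groth.Agent.S9203
import Mathlib

/-!
Affine open neighbourhoods of finite sets may be found one closed piece at a time.
-/

set_option autoImplicit false
set_option backward.isDefEq.respectTransparency false
set_option linter.style.haveILetI false

universe u

open CategoryTheory AlgebraicGeometry TopologicalSpace

noncomputable section

namespace Groth.Agent.DimOneAffineLib

/-- Coset prime avoidance. -/
theorem exists_add_notMem {R : Type*} [CommRing R] (c : R) (J : Ideal R) (s : Finset (Ideal R))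
    (hs : ∀ p ∈ s, p.IsPrime) (hJ : ∀ p ∈ s, ¬ J ≤ p) : ∃ r ∈ J, ∀ p ∈ s, c + r ∉ p := by
  classical
  induction s using Finset.strongInduction with
  | H s ih =>
    rcases s.eq_empty_or_nonempty with rfl | hne
    · exact ⟨0, J.zero_mem, by simp⟩
    · obtain ⟨p, hps, hmin⟩ := s.exists_minimal hne
      obtain ⟨r, hr, hrs⟩ := ih (s.erase p) (Finset.erase_ssubset hps)
        (fun q hq => hs q (Finset.mem_of_mem_erase hq)) (fun q hq => hJ q (Finset.mem_of_mem_erase hq))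
      by_cases hp : c + r ∈ p
      · haveI := hs p hps
        obtain ⟨e, he, hep⟩ := SetLike.not_le_iff_exists.1 (show ¬ J ⊓ (s.erase p).inf id ≤ p by
          intro hle
          rcases (hs p hps).inf_le.1 hle with h | h
          · exact hJ p hps h
          · obtain ⟨q, hq, hqp⟩ := (hs p hps).inf_le'.1 h
            exact Finset.ne_of_mem_erase hq (le_antisymm hqp (hmin (Finset.mem_of_mem_erase hq) hqp)))
        refine ⟨r + e, J.add_mem hr he.1, fun q hq => ?_⟩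
        rw [← add_assoc]
        by_cases hqp : q = p
        · subst hqp
          exact fun h => hep ((q.add_mem_iff_right hp).1 h)
        · have hq' := Finset.mem_erase.2 ⟨hqp, hq⟩
          have heq : e ∈ q := (Finset.inf_le (f := id) hq') he.2
          exact fun h => hrs q hq' ((q.add_mem_iff_left heq).1 h)
      · refine ⟨r, hr, fun q hq => ?_⟩
        by_cases hqp : q = p
        · exact hqp ▸ hp
        · exact hrs q (Finset.mem_erase.2 ⟨hqp, hq⟩)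

/-- A function may be changed off a closed set so as not to vanish at finitely many given points. -/
theorem exists_fun_congr {X : Scheme.{u}} {U : X.Opens} (hU : IsAffineOpen U) {F : Set X} (hF : IsClosed F)
    (P : Set X) (hP : P.Finite) (hPU : P ⊆ U) (hPF : ∀ x ∈ P, x ∉ F) (c : Γ(X, U)) :
    ∃ a : Γ(X, U), (∀ x ∈ P, x ∈ X.basicOpen a) ∧ ∀ x ∈ F, x ∈ X.basicOpen a ↔ x ∈ X.basicOpen c := by
  classical
  obtain ⟨J, hJ⟩ := (PrimeSpectrum.isClosed_iff_zeroLocus_ideal _).1 (hF.preimage hU.fromSpec.continuous)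
  have hmem : ∀ (x : X) (hx : x ∈ U), x ∈ F ↔ J ≤ (hU.primeIdealOf ⟨x, hx⟩).asIdeal := fun x hx => by
    have h := Set.ext_iff.1 hJ (hU.primeIdealOf ⟨x, hx⟩)
    have e := hU.fromSpec_primeIdealOf ⟨x, hx⟩
    constructor
    · intro hxF
      exact h.1 (show hU.fromSpec _ ∈ F by rw [e]; exact hxF)
    · intro hle
      have := h.2 hle
      change hU.fromSpec _ ∈ F at this
      rwa [e] at this
  haveI := hP.to_subtype
  haveI := Fintype.ofFinite ↥P
  let q := fun x : ↥P => (hU.primeIdealOf ⟨x.1, hPU x.2⟩).asIdeal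
  obtain ⟨r, hrJ, hr⟩ := exists_add_notMem c J (Finset.univ.image q)
    (fun p hp => by
      obtain ⟨x, -, rfl⟩ := Finset.mem_image.1 hp
      exact (hU.primeIdealOf ⟨x.1, hPU x.2⟩).isPrime)
    (fun p hp => by
      obtain ⟨x, -, rfl⟩ := Finset.mem_image.1 hp
      exact fun hle => hPF x.1 x.2 ((hmem x.1 (hPU x.2)).2 hle))
  have hb : ∀ (a : Γ(X, U)) (x : X) (hx : x ∈ U), x ∈ X.basicOpen a ↔ a ∉ (hU.primeIdealOf ⟨x, hx⟩).asIdeal :=
    fun a x hx => by
      have h := SetLike.ext_iff.1 (hU.fromSpec_preimage_basicOpen a) (hU.primeIdealOf ⟨x, hx⟩)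
      rw [Scheme.Hom.mem_preimage, hU.fromSpec_primeIdealOf] at h
      exact h
  refine ⟨c + r, fun x hx => ?_, fun x hxF => ?_⟩
  · rw [hb _ x (hPU hx)]
    exact hr (q ⟨x, hx⟩) (Finset.mem_image_of_mem q (Finset.mem_univ (⟨x, hx⟩ : ↥P)))
  by_cases hxU : x ∈ U
  · rw [hb _ x hxU, hb _ x hxU, Ideal.add_mem_iff_left _ ((hmem x hxU).1 hxF hrJ)]
  · exact ⟨fun h => absurd (X.basicOpen_le _ h) hxU, fun h => absurd (X.basicOpen_le _ h) hxU⟩

/-- A function on an affine open vanishing on a closed set but not at finitely many given points. -/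
theorem exists_fun_vanishing {X : Scheme.{u}} {U : X.Opens} (hU : IsAffineOpen U) {F : Set X} (hF : IsClosed F)
    (P : Set X) (hP : P.Finite) (hPU : P ⊆ U) (hPF : ∀ x ∈ P, x ∉ F) :
    ∃ a : Γ(X, U), (∀ x ∈ P, x ∈ X.basicOpen a) ∧ ∀ x ∈ F, x ∉ X.basicOpen a := by
  obtain ⟨a, ha, haF⟩ := exists_fun_congr hU hF P hP hPU hPF 0
  exact ⟨a, ha, fun x hx h => by simpa using (haF x hx).1 h⟩

variable {X : Scheme.{u}}

/-- The reduced closed subscheme on `Y`. -/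
abbrev sub (Y : Closeds X) : Scheme.{u} := (Scheme.IdealSheafData.vanishingIdeal Y).subscheme

/-- Its inclusion. -/
abbrev subι (Y : Closeds X) : sub Y ⟶ X := (Scheme.IdealSheafData.vanishingIdeal Y).subschemeι

theorem range_subι (Y : Closeds X) : Set.range (subι Y) = Y := by
  rw [Scheme.IdealSheafData.range_subschemeι, Scheme.IdealSheafData.coe_support_vanishingIdeal]

theorem subι_mem (Y : Closeds X) (z : sub Y) : subι Y z ∈ Y := by
  have h : subι Y z ∈ Set.range (subι Y) := ⟨z, rfl⟩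
  rw [range_subι] at h
  exact h

/-- The inclusion of smaller closed subsets. -/
def incl {Y Z : Closeds X} (h : Y ≤ Z) : sub Y ⟶ sub Z :=
  Scheme.IdealSheafData.inclusion (Scheme.IdealSheafData.vanishingIdeal_antimono h)

@[reassoc]
theorem incl_ι {Y Z : Closeds X} (h : Y ≤ Z) : incl h ≫ subι Z = subι Y :=
  Scheme.IdealSheafData.inclusion_subschemeι _

theorem subι_incl {Y Z : Closeds X} (h : Y ≤ Z) (z : sub Y) : subι Z (incl h z) = subι Y z := by
  rw [← Scheme.Hom.comp_apply, incl_ι]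

theorem isClosedImmersion_incl {Y Z : Closeds X} (h : Y ≤ Z) : IsClosedImmersion (incl h) := by
  haveI : IsClosedImmersion (incl h ≫ subι Z) := by rw [incl_ι]; infer_instance
  exact IsClosedImmersion.of_comp (incl h) (subι Z)

/-- `Y` has, near the finite set `S`, an affine trace of an open. -/
def GoodPiece (S : Set X) (Y : Closeds X) : Prop :=
  ∃ O : X.Opens, S ∩ (Y : Set X) ⊆ O ∧ IsAffineOpen (subι Y ⁻¹ᵁ O)

theorem goodPiece_sup {S : Set X} (hS : S.Finite) {Y₁ Y₂ : Closeds X} (h₁ : GoodPiece S Y₁) (h₂ : GoodPiece S Y₂) :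
    GoodPiece S (Y₁ ⊔ Y₂) := by
  classical
  obtain ⟨O₁, hS₁, hU₁⟩ := h₁
  obtain ⟨O₂, hS₂, hU₂⟩ := h₂
  let P : ∀ Y : Closeds X, Set (sub Y) := fun Y => subι Y ⁻¹' S
  have hP : ∀ Y : Closeds X, (P Y).Finite := fun Y =>
    hS.preimage (subι Y).isClosedEmbedding.injective.injOn
  have hlift : ∀ {Y : Closeds X} {x : X}, x ∈ Y → ∃ z : sub Y, subι Y z = x := fun {Y x} hx => by
    have : x ∈ Set.range (subι Y) := by rw [range_subι]; exact hx
    exact this
  let D : Closeds X := Y₁ ⊓ Y₂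
  let j₁ := incl (inf_le_left : D ≤ Y₁)
  let j₂ := incl (inf_le_right : D ≤ Y₂)
  haveI := isClosedImmersion_incl (inf_le_left : D ≤ Y₁)
  haveI := isClosedImmersion_incl (inf_le_right : D ≤ Y₂)
  -- a function on the second piece confining the intersection to the first open
  obtain ⟨a, haS, haF⟩ := exists_fun_vanishing hU₂ (F := subι Y₂ ⁻¹' ((Y₁ : Set X) ∩ (O₁ : Set X)ᶜ))
    ((Y₁.isClosed.inter O₁.isOpen.isClosed_compl).preimage (subι Y₂).continuous)
    (P Y₂) (hP _) (fun z hz => hS₂ ⟨hz, subι_mem Y₂ z⟩) (fun z hz h => h.2 (hS₁ ⟨hz, h.1⟩))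
  let Z₂ : (sub Y₂).Opens := (sub Y₂).basicOpen a
  have hZ₂ : IsAffineOpen Z₂ := hU₂.basicOpen a
  -- a function on the first piece confining the intersection to that basic open
  have hclosed : IsClosed (subι Y₂ '' (Z₂ : Set (sub Y₂))ᶜ) :=
    (subι Y₂).isClosedMap _ Z₂.isOpen.isClosed_compl
  obtain ⟨b, hbS, hbF⟩ := exists_fun_vanishing hU₁ (F := subι Y₁ ⁻¹' (subι Y₂ '' (Z₂ : Set (sub Y₂))ᶜ))
    (hclosed.preimage (subι Y₁).continuous) (P Y₁) (hP _) (fun z hz => hS₁ ⟨hz, subι_mem Y₁ z⟩) (by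
      rintro z hz ⟨w, hw, hwz⟩
      exact hw (haS w (show subι Y₂ w ∈ S from hwz ▸ hz)))
  let E : (sub D).Opens := j₂ ⁻¹ᵁ Z₂
  have hE : E ≤ j₁ ⁻¹ᵁ (subι Y₁ ⁻¹ᵁ O₁) := by
    intro z hz
    show subι Y₁ (j₁ z) ∈ O₁
    by_contra hne
    rw [subι_incl] at hne
    refine haF (j₂ z) ⟨?_, ?_⟩ hz
    · rw [subι_incl]; exact (subι_mem D z).1
    · rw [subι_incl]; exact hne
  let β : Γ(sub D, E) := j₁.appLE _ E hE b
  obtain ⟨c', hc'⟩ : ∃ c', (j₂.app Z₂).hom c' = β := by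
    haveI : IsAffine Z₂.toScheme := hZ₂
    obtain ⟨-, hsurj⟩ := IsClosedImmersion.isAffine_surjective_of_isAffine (f := j₂ ∣_ Z₂)
    rw [morphismRestrict_appTop] at hsurj
    have key : ∀ W : (sub Y₂).Opens, W = Z₂ → Function.Surjective (j₂.app W).hom →
        Function.Surjective (j₂.app Z₂).hom := fun W h hs => by subst h; exact hs
    refine key _ Z₂.ι_image_top ?_ β
    intro y
    obtain ⟨v, hv⟩ := hsurj ((sub D).presheaf.map (eqToHom (image_morphismRestrict_preimage j₂ Z₂ ⊤)).op y)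
    exact ⟨v, (ConcreteCategory.bijective_of_isIso _).1 hv⟩
  haveI : IsLocalization.Away a Γ(sub Y₂, Z₂) := hU₂.isLocalization_basicOpen a
  obtain ⟨n, c₀, hc⟩ := IsLocalization.Away.surj a c'
  -- correct the function at the points off the first piece
  obtain ⟨c, hcS, hcF⟩ := exists_fun_congr hU₂ (F := subι Y₂ ⁻¹' (Y₁ : Set X))
    (Y₁.isClosed.preimage (subι Y₂).continuous) (P Y₂ \ subι Y₂ ⁻¹' (Y₁ : Set X)) ((hP _).sdiff)
    (fun z hz => hS₂ ⟨hz.1, subι_mem Y₂ z⟩) (fun z hz => hz.2) c₀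
  let W₁ : (sub Y₁).Opens := (sub Y₁).basicOpen b
  let W₂ : (sub Y₂).Opens := (sub Y₂).basicOpen (a * c)
  have hW₂ : (sub Y₂).basicOpen (a * c₀) = (sub Y₂).basicOpen c' := by
    have hu : IsUnit (algebraMap Γ(sub Y₂, subι Y₂ ⁻¹ᵁ O₂) Γ(sub Y₂, Z₂) a ^ n) :=
      (IsLocalization.Away.algebraMap_isUnit a).pow n
    have h1 : (sub Y₂).basicOpen (algebraMap Γ(sub Y₂, subι Y₂ ⁻¹ᵁ O₂) Γ(sub Y₂, Z₂) c₀) = (sub Y₂).basicOpen c' := by
      rw [← hc, Scheme.basicOpen_mul, (sub Y₂).basicOpen_of_isUnit hu]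
      exact inf_eq_left.2 ((sub Y₂).basicOpen_le _)
    rw [← h1]
    show (sub Y₂).basicOpen (a * c₀) = (sub Y₂).basicOpen ((sub Y₂).presheaf.map (homOfLE ((sub Y₂).basicOpen_le a)).op c₀)
    rw [Scheme.basicOpen_mul, Scheme.basicOpen_res]
  have hcompat : ∀ z : sub D, j₁ z ∈ W₁ ↔ j₂ z ∈ W₂ := by
    intro z
    have e0 : j₂ z ∈ W₂ ↔ j₂ z ∈ (sub Y₂).basicOpen (a * c₀) := by
      show j₂ z ∈ (sub Y₂).basicOpen (a * c) ↔ _
      rw [Scheme.basicOpen_mul, Scheme.basicOpen_mul]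
      exact and_congr Iff.rfl (hcF _ (show subι Y₂ (j₂ z) ∈ Y₁ by rw [subι_incl]; exact (subι_mem D z).1))
    rw [e0]
    have e1 : j₂ ⁻¹ᵁ (sub Y₂).basicOpen (a * c₀) = (sub D).basicOpen β := by
      rw [hW₂, Scheme.preimage_basicOpen, ← hc']
    have e2 : (sub D).basicOpen β = E ⊓ j₁ ⁻¹ᵁ W₁ := by
      show (sub D).basicOpen (j₁.appLE _ E hE b) = _
      rw [Scheme.Hom.appLE, CommRingCat.comp_apply, Scheme.basicOpen_res, ← Scheme.preimage_basicOpen]
    have h : j₂ z ∈ (sub Y₂).basicOpen (a * c₀) ↔ z ∈ E ∧ j₁ z ∈ W₁ := by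
      rw [← Scheme.Hom.mem_preimage, e1, e2]; rfl
    rw [h]
    refine ⟨fun hz => ⟨?_, hz⟩, fun hz => hz.2⟩
    by_contra hzE
    refine hbF (j₁ z) ⟨j₂ z, hzE, ?_⟩ hz
    rw [subι_incl, subι_incl]
  -- the open
  let O : X.Opens := ⟨((subι Y₁ '' (W₁ : Set (sub Y₁))ᶜ) ∪ (subι Y₂ '' (W₂ : Set (sub Y₂))ᶜ))ᶜ,
    (((subι Y₁).isClosedMap _ W₁.isOpen.isClosed_compl).union
      ((subι Y₂).isClosedMap _ W₂.isOpen.isClosed_compl)).isOpen_compl⟩
  have hO₁ : subι Y₁ ⁻¹ᵁ O = W₁ := by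
    ext z
    change subι Y₁ z ∉ _ ∪ _ ↔ z ∈ W₁
    constructor
    · intro h
      by_contra hz
      exact h (Or.inl ⟨z, hz, rfl⟩)
    · rintro hz (⟨w, hw, hwz⟩ | ⟨w, hw, hwz⟩)
      · exact hw ((subι Y₁).isClosedEmbedding.injective hwz ▸ hz)
      · obtain ⟨d, hd⟩ := hlift (Y := D) (x := subι Y₁ z) ⟨subι_mem Y₁ z, hwz ▸ subι_mem Y₂ w⟩
        have e1 : j₁ d = z := (subι Y₁).isClosedEmbedding.injective (by rw [subι_incl, hd])
        have e2 : j₂ d = w := (subι Y₂).isClosedEmbedding.injective (by rw [subι_incl, hd, hwz])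
        exact hw (e2 ▸ (hcompat d).1 (e1.symm ▸ hz))
  have hO₂ : subι Y₂ ⁻¹ᵁ O = W₂ := by
    ext z
    change subι Y₂ z ∉ _ ∪ _ ↔ z ∈ W₂
    constructor
    · intro h
      by_contra hz
      exact h (Or.inr ⟨z, hz, rfl⟩)
    · rintro hz (⟨w, hw, hwz⟩ | ⟨w, hw, hwz⟩)
      · obtain ⟨d, hd⟩ := hlift (Y := D) (x := subι Y₂ z) ⟨hwz ▸ subι_mem Y₁ w, subι_mem Y₂ z⟩
        have e1 : j₁ d = w := (subι Y₁).isClosedEmbedding.injective (by rw [subι_incl, hd, hwz])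
        have e2 : j₂ d = z := (subι Y₂).isClosedEmbedding.injective (by rw [subι_incl, hd])
        exact hw (e1 ▸ (hcompat d).2 (e2.symm ▸ hz))
      · exact hw ((subι Y₂).isClosedEmbedding.injective hwz ▸ hz)
  have hSW₁ : ∀ z : sub Y₁, subι Y₁ z ∈ S → z ∈ W₁ := fun z hz => hbS z hz
  have hSW₂ : ∀ z : sub Y₂, subι Y₂ z ∈ S → z ∈ W₂ := fun z hz => by
    rw [show W₂ = Z₂ ⊓ (sub Y₂).basicOpen c from Scheme.basicOpen_mul _ _ _]
    refine ⟨haS z hz, ?_⟩
    by_cases hD : subι Y₂ z ∈ Y₁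
    · obtain ⟨d, hd⟩ := hlift (Y := D) (x := subι Y₂ z) ⟨hD, subι_mem Y₂ z⟩
      have e2 : j₂ d = z := (subι Y₂).isClosedEmbedding.injective (by rw [subι_incl, hd])
      have h1 : j₁ d ∈ W₁ := hSW₁ _ (by rw [subι_incl, hd]; exact hz)
      have h2 := (hcompat d).1 h1
      rw [e2] at h2
      exact ((Scheme.basicOpen_mul _ a c).le h2).2
    · exact hcS z ⟨hz, hD⟩
  refine ⟨O, fun x hx => ?_, ?_⟩
  · obtain ⟨hxS, hxY | hxY⟩ := hx
    · obtain ⟨z, rfl⟩ := hlift hxY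
      exact hO₁.ge (hSW₁ z hxS)
    · obtain ⟨z, rfl⟩ := hlift hxY
      exact hO₂.ge (hSW₂ z hxS)
  · let i₁ := incl (le_sup_left : Y₁ ≤ Y₁ ⊔ Y₂)
    let i₂ := incl (le_sup_right : Y₂ ≤ Y₁ ⊔ Y₂)
    haveI := isClosedImmersion_incl (le_sup_left : Y₁ ≤ Y₁ ⊔ Y₂)
    haveI := isClosedImmersion_incl (le_sup_right : Y₂ ≤ Y₁ ⊔ Y₂)
    let V := subι (Y₁ ⊔ Y₂) ⁻¹ᵁ O
    have hV₁ : i₁ ⁻¹ᵁ V = W₁ := by rw [← Scheme.Hom.comp_preimage, incl_ι, hO₁]
    have hV₂ : i₂ ⁻¹ᵁ V = W₂ := by rw [← Scheme.Hom.comp_preimage, incl_ι, hO₂]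
    haveI : IsAffine (i₁ ⁻¹ᵁ V).toScheme := by rw [hV₁]; exact hU₁.basicOpen b
    haveI : IsAffine (i₂ ⁻¹ᵁ V).toScheme := by rw [hV₂]; exact hU₂.basicOpen (a * c)
    let Z : Bool → Scheme.{u} := fun k => bif k then (i₁ ⁻¹ᵁ V).toScheme else (i₂ ⁻¹ᵁ V).toScheme
    let ι : ∀ k, Z k ⟶ V.toScheme := fun k => match k with
      | true => i₁ ∣_ V
      | false => i₂ ∣_ V
    haveI : ∀ k, IsClosedImmersion (ι k) := fun k => by
      cases k
      · exact IsZariskiLocalAtTarget.restrict ‹_› V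
      · exact IsZariskiLocalAtTarget.restrict ‹_› V
    haveI : ∀ k, IsAffine (Z k) := fun k => by cases k <;> assumption
    show IsAffine V.toScheme
    refine S9203.result V.toScheme Z ι fun x => ?_
    rcases subι_mem (Y₁ ⊔ Y₂) x.1 with hx | hx
    · obtain ⟨z, hz⟩ := hlift hx
      have e : i₁ z = x.1 := (subι (Y₁ ⊔ Y₂)).isClosedEmbedding.injective (by rw [subι_incl, hz])
      exact ⟨true, ⟨z, show i₁ z ∈ V from e.symm ▸ x.2⟩, Subtype.ext ((morphismRestrict_base_coe i₁ V _).trans e)⟩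
    · obtain ⟨z, hz⟩ := hlift hx
      have e : i₂ z = x.1 := (subι (Y₁ ⊔ Y₂)).isClosedEmbedding.injective (by rw [subι_incl, hz])
      exact ⟨false, ⟨z, show i₂ z ∈ V from e.symm ▸ x.2⟩, Subtype.ext ((morphismRestrict_base_coe i₂ V _).trans e)⟩

end Groth.Agent.DimOneAffineLib
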