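import Groth.Agent.DimOneAffineLib.Glue
import Groth.Agent.GrpdGenericLib.Main

/-!
An orbit which is generic in an invariant closed set has a basic open neighbourhood whose trace on that
closed set is invariant; the source map need not be flat.
-/

set_option autoImplicit false
set_option backward.isDefEq.respectTransparency false
set_option linter.style.haveILetI false

universe u

open CategoryTheory AlgebraicGeometry TopologicalSpace

noncomputable section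

namespace Groth.Agent.DimOneAffineLib

open Groth.Agent.FinGrpdLib

variable {S : Scheme.{u}} (G : Grpd.GroupoidScheme S) [IsFinite G.s] [IsLocallyNoetherian G.U]

/-- Points of `R` over an affine open, in terms of primes. -/
theorem appLE_point {X Y : Scheme.{u}} (f : X ⟶ Y) {V : Y.Opens} (hV : IsAffineOpen V)
    (hR : IsAffineOpen (f ⁻¹ᵁ V)) (Q : PrimeSpectrum Γ(X, f ⁻¹ᵁ V)) :
    f (hR.fromSpec Q) = hV.fromSpec (PrimeSpectrum.comap (f.appLE V (f ⁻¹ᵁ V) le_rfl).hom Q) := by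
  have e := hV.SpecMap_appLE_fromSpec f hR (le_refl (f ⁻¹ᵁ V))
  have e' := congrArg (fun k => k Q) e
  simp only [Scheme.Hom.comp_apply] at e'
  exact e'.symm

theorem exists_invariant_trace {U₁ V : G.U.Opens} (hV : IsAffineOpen V) (hU₁V : U₁ ≤ V)
    (hU₁ : ∀ {x y : G.U}, Rel G x y → y ∈ U₁ → x ∈ U₁) {T : Set G.U} (hT : IsClosed T)
    (hTinv : ∀ {x y : G.U}, Rel G x y → y ∈ T → x ∈ T) {P : Set G.U} (hP : P.Finite)
    (hPU : P ⊆ U₁) (hPT : P ⊆ T) (hPinv : ∀ {x y : G.U}, Rel G x y → y ∈ P → x ∈ P)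
    (hPmin : ∀ y ∈ P, ∀ x ∈ T, x ∈ U₁ → x ⤳ y → x = y) :
    ∃ h : Γ(G.U, V), G.U.basicOpen h ≤ U₁ ∧ (∀ y ∈ P, y ∈ G.U.basicOpen h) ∧
      ∀ {x y : G.U}, Rel G x y → y ∈ T → y ∈ G.U.basicOpen h → x ∈ G.U.basicOpen h := by
  classical
  haveI := hP.to_subtype
  obtain ⟨h₁, hh₁P, hh₁⟩ := exists_fun_vanishing hV (F := (U₁ : Set G.U)ᶜ) U₁.isOpen.isClosed_compl P hP
    (fun y hy => hU₁V (hPU hy)) (fun y hy h => h (hPU hy))
  let D₁ := G.U.basicOpen h₁
  have hD₁ : IsAffineOpen D₁ := hV.basicOpen h₁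
  have hDU : D₁ ≤ U₁ := fun y hy => by_contra fun hne => hh₁ y hne hy
  have hR₁ : IsAffineOpen (G.s ⁻¹ᵁ D₁) := hD₁.preimage G.s
  have hRt : G.s ⁻¹ᵁ D₁ ≤ G.t ⁻¹ᵁ U₁ := fun r hr => hU₁ ⟨r, rfl, rfl⟩ (hDU hr)
  haveI : IsNoetherianRing Γ(G.U, D₁) := IsLocallyNoetherian.component_noetherian ⟨D₁, hD₁⟩
  let σ := (G.s.appLE D₁ (G.s ⁻¹ᵁ D₁) le_rfl).hom
  letI : Algebra Γ(G.U, D₁) Γ(G.R, G.s ⁻¹ᵁ D₁) := σ.toAlgebra
  haveI : Module.Finite Γ(G.U, D₁) Γ(G.R, G.s ⁻¹ᵁ D₁) := by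
    have h := G.s.finite_app D₁ hD₁
    rw [← Scheme.Hom.appLE_eq_app] at h
    exact h
  obtain ⟨J, hJ⟩ := (PrimeSpectrum.isClosed_iff_zeroLocus_ideal _).1 (hT.preimage hD₁.fromSpec.continuous)
  have hmem : ∀ (p : PrimeSpectrum Γ(G.U, D₁)), hD₁.fromSpec p ∈ T ↔ J ≤ p.asIdeal := fun p =>
    Set.ext_iff.1 hJ p
  let B₁ := Γ(G.U, D₁) ⧸ J
  let J' := J.map (algebraMap Γ(G.U, D₁) Γ(G.R, G.s ⁻¹ᵁ D₁))
  let σ' : B₁ →+* Γ(G.R, G.s ⁻¹ᵁ D₁) ⧸ J' := Ideal.quotientMap J' σ Ideal.le_comap_map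
  have hfin : σ'.Finite := by
    refine RingHom.Finite.of_comp_finite (f := Ideal.Quotient.mk J) ?_
    rw [show σ'.comp (Ideal.Quotient.mk J) = (Ideal.Quotient.mk J').comp σ from Ideal.quotientMap_comp_mk _]
    exact (RingHom.Finite.of_surjective _ Ideal.Quotient.mk_surjective).comp
      (RingHom.finite_algebraMap.2 inferInstance)
  have hlift : ∀ p : PrimeSpectrum Γ(G.U, D₁), J ≤ p.asIdeal →
      ∃ p' : PrimeSpectrum B₁, p'.comap (Ideal.Quotient.mk J) = p := fun p hp => by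
    have h : p ∈ Set.range (PrimeSpectrum.comap (Ideal.Quotient.mk J)) := by
      rw [range_comap_of_surjective _ _ Ideal.Quotient.mk_surjective, Ideal.mk_ker]
      exact hp
    exact h
  have hpp : ∀ y : ↥P, hD₁.fromSpec (hD₁.primeIdealOf ⟨y.1, hh₁P y.1 y.2⟩) = y := fun y =>
    hD₁.fromSpec_primeIdealOf _
  choose xb hxb using fun y : ↥P => hlift (hD₁.primeIdealOf ⟨y.1, hh₁P y.1 y.2⟩)
    ((hmem _).1 (by rw [hpp y]; exact hPT y.2))
  obtain ⟨f', hf', hN⟩ := GrpdGenericLib.exists_norm_elt_generic σ' hfin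
    (RingHom.FinitePresentation.of_finiteType.1 hfin.finiteType) xb (fun y q hq => by
      apply PrimeSpectrum.comap_injective_of_surjective _ Ideal.Quotient.mk_surjective
      rw [hxb y]
      apply hD₁.fromSpec.isOpenEmbedding.injective
      rw [hpp y]
      refine hPmin y y.2 _ ((hmem _).2 ?_) ?_ ?_
      · intro a ha
        show Ideal.Quotient.mk J a ∈ q.asIdeal
        rw [Ideal.Quotient.eq_zero_iff_mem.2 ha]
        exact q.asIdeal.zero_mem
      · refine hDU ?_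
        rw [← SetLike.mem_coe, ← hD₁.range_fromSpec]
        exact Set.mem_range_self _
      · have h := (PrimeSpectrum.le_iff_specializes _ _).1
          (show q.comap (Ideal.Quotient.mk J) ≤ (xb y).comap (Ideal.Quotient.mk J) from Ideal.comap_mono hq)
        have h2 := h.map hD₁.fromSpec.continuous
        rwa [hxb y, hpp y] at h2)
  obtain ⟨f, rfl⟩ := Ideal.Quotient.mk_surjective f'
  let E := G.U.basicOpen f
  have hPE : ∀ y ∈ P, y ∈ E := fun y hy => (FinGrpdLib.mem_basicOpen_iff hD₁ (hh₁P y hy) f).2 fun h => by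
    refine hf' ⟨y, hy⟩ ?_
    rw [← hxb ⟨y, hy⟩] at h
    exact h
  obtain ⟨h₂, hh₂⟩ := IsAffineOpen.basicOpen_basicOpen_is_basicOpen hV h₁ f
  let γ : Γ(G.R, G.s ⁻¹ᵁ D₁) :=
    G.t.appLE U₁ (G.s ⁻¹ᵁ D₁) hRt (G.U.presheaf.map (homOfLE hU₁V).op h₂)
  have hγ : ∀ r, r ∈ G.R.basicOpen γ ↔ r ∈ G.s ⁻¹ᵁ D₁ ∧ G.t r ∈ E := fun r => by
    simp only [γ, Scheme.Hom.appLE, CommRingCat.comp_apply, Scheme.basicOpen_res, ← Scheme.preimage_basicOpen]
    change r ∈ G.s ⁻¹ᵁ D₁ ∧ G.t r ∈ (U₁ ⊓ G.U.basicOpen h₂) ↔ _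
    rw [hh₂]
    exact ⟨fun h => ⟨h.1, h.2.2⟩, fun h => ⟨h.1, hRt h.1, h.2⟩⟩
  obtain ⟨N', hN⟩ := hN (Ideal.Quotient.mk J' γ)
  obtain ⟨N, rfl⟩ := Ideal.Quotient.mk_surjective N'
  have key : ∀ x ∈ T, (x ∈ G.U.basicOpen (f * N) ↔ x ∈ D₁ ∧ ∀ z, Rel G z x → z ∈ E) := by
    intro x hxT
    rw [Scheme.basicOpen_mul]
    constructor
    · rintro ⟨hxE, hxN⟩
      have hxD : x ∈ D₁ := G.U.basicOpen_le f hxE
      refine ⟨hxD, ?_⟩
      rintro z ⟨r, rfl, rfl⟩
      by_contra hz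
      have hr : r ∈ G.s ⁻¹ᵁ D₁ := hxD
      have hQ : γ ∈ (hR₁.primeIdealOf ⟨r, hr⟩).asIdeal := by
        by_contra hgQ
        exact hz ((hγ r).1 ((FinGrpdLib.mem_basicOpen_iff hR₁ hr γ).2 hgQ)).2
      set Q := hR₁.primeIdealOf ⟨r, hr⟩ with hQdef
      have hQP : PrimeSpectrum.comap σ Q = hD₁.primeIdealOf ⟨G.s r, hxD⟩ := by
        apply hD₁.fromSpec.isOpenEmbedding.injective
        rw [hD₁.fromSpec_primeIdealOf, ← appLE_point G.s hD₁ hR₁, hR₁.fromSpec_primeIdealOf]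
      have hJP : J ≤ (hD₁.primeIdealOf ⟨G.s r, hxD⟩).asIdeal :=
        (hmem _).1 (by rw [hD₁.fromSpec_primeIdealOf]; exact hxT)
      obtain ⟨P', hP'⟩ := hlift _ hJP
      obtain ⟨Q', hQ'⟩ : Q ∈ Set.range (PrimeSpectrum.comap (Ideal.Quotient.mk J')) := by
        rw [range_comap_of_surjective _ _ Ideal.Quotient.mk_surjective, Ideal.mk_ker]
        refine Ideal.map_le_iff_le_comap.2 fun a ha => ?_
        have h' := hJP ha
        rw [← hQP] at h'
        exact h'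
      have hcomp : PrimeSpectrum.comap σ' Q' = P' := by
        apply PrimeSpectrum.comap_injective_of_surjective _ Ideal.Quotient.mk_surjective
        rw [hP', ← hQP, ← hQ', ← PrimeSpectrum.comap_comp_apply, ← PrimeSpectrum.comap_comp_apply,
          Ideal.quotientMap_comp_mk]
      have hfP : Ideal.Quotient.mk J f ∉ P'.asIdeal := fun h => by
        refine (FinGrpdLib.mem_basicOpen_iff hD₁ hxD f).1 hxE ?_
        rw [← hP']
        exact h
      have hN0 := (hN P' hfP).2 ⟨Q', hcomp, by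
        rw [← hQ'] at hQ
        exact hQ⟩
      refine (FinGrpdLib.mem_basicOpen_iff hD₁ hxD N).1 hxN ?_
      rw [← hP']
      exact hN0
    · rintro ⟨hxD, hall⟩
      have hxE : x ∈ E := hall x (Rel.refl G x)
      refine ⟨hxE, ?_⟩
      by_contra hxN
      have hJP : J ≤ (hD₁.primeIdealOf ⟨x, hxD⟩).asIdeal :=
        (hmem _).1 (by rw [hD₁.fromSpec_primeIdealOf]; exact hxT)
      obtain ⟨P', hP'⟩ := hlift _ hJP
      have hN0 : Ideal.Quotient.mk J N ∈ P'.asIdeal := by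
        rw [SetLike.mem_coe, FinGrpdLib.mem_basicOpen_iff hD₁ hxD, not_not, ← hP'] at hxN
        exact hxN
      have hfP : Ideal.Quotient.mk J f ∉ P'.asIdeal := fun h => by
        refine (FinGrpdLib.mem_basicOpen_iff hD₁ hxD f).1 hxE ?_
        rw [← hP']
        exact h
      obtain ⟨Q', hQ'P, hgQ⟩ := (hN P' hfP).1 hN0
      let Q := PrimeSpectrum.comap (Ideal.Quotient.mk J') Q'
      let r := hR₁.fromSpec Q
      have hr : r ∈ G.s ⁻¹ᵁ D₁ := by
        rw [← SetLike.mem_coe, ← hR₁.range_fromSpec]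
        exact Set.mem_range_self _
      have hrs : G.s r = x := by
        have e : PrimeSpectrum.comap σ Q = hD₁.primeIdealOf ⟨x, hxD⟩ := by
          rw [← hP', ← hQ'P, ← PrimeSpectrum.comap_comp_apply, ← PrimeSpectrum.comap_comp_apply,
            Ideal.quotientMap_comp_mk]
        exact (appLE_point G.s hD₁ hR₁ Q).trans ((congrArg hD₁.fromSpec e).trans (hD₁.fromSpec_primeIdealOf _))
      have hrg : r ∈ G.R.basicOpen γ := (hγ r).2 ⟨hr, hall _ ⟨r, rfl, hrs⟩⟩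
      rw [← Scheme.Hom.mem_preimage, hR₁.fromSpec_preimage_basicOpen] at hrg
      exact hrg hgQ
  obtain ⟨h, hh⟩ := IsAffineOpen.basicOpen_basicOpen_is_basicOpen hV h₁ (f * N)
  refine ⟨h, hh.le.trans ((G.U.basicOpen_le _).trans hDU), fun y hy => ?_, fun {x y} hxy hyT hy => ?_⟩
  · rw [hh, key y (hPT hy)]
    exact ⟨hh₁P y hy, fun z hz => hPE z (hPinv hz hy)⟩
  · rw [hh, key x (hTinv hxy hyT)]
    rw [hh, key y hyT] at hy
    exact ⟨G.U.basicOpen_le f (hy.2 x hxy), fun z hz => hy.2 z (hz.trans hxy)⟩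

end Groth.Agent.DimOneAffineLib
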