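import Mathlib.FieldTheory.Minpoly.IsIntegrallyClosed
import Mathlib.RingTheory.QuasiFinite.Basic
import Mathlib.RingTheory.Ideal.GoingUp

/-!
An element of a normal domain describing the image of the zero set of an element of a finite algebra,
wherever the algebra has generalisations over the generic point.
-/

set_option autoImplicit false
set_option linter.style.haveILetI false

universe u v

open Polynomial

namespace Groth.Agent.DimOneAffineLib

variable {A : Type u} [CommRing A] [IsDomain A] [IsIntegrallyClosed A]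

/-- In an integral domain extension, a prime containing the constant coefficient of the minimal polynomial
lies under a prime containing the element. -/
theorem exists_prime_of_coeff_zero_mem {E : Type v} [CommRing E] [IsDomain E] [Algebra A E] [Algebra.IsIntegral A E]
    [Module.IsTorsionFree A E] (x : E) (P : Ideal A) [P.IsPrime] (h : (minpoly A x).coeff 0 ∈ P) :
    ∃ Q : Ideal E, Q.IsPrime ∧ Q.comap (algebraMap A E) = P ∧ x ∈ Q := by
  have hx : IsIntegral A x := Algebra.IsIntegral.isIntegral x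
  let Ax := Algebra.adjoin A ({x} : Set E)
  let xa : Ax := ⟨x, Algebra.self_mem_adjoin_singleton A x⟩
  let φ : AdjoinRoot (minpoly A x) →+* A ⧸ P :=
    AdjoinRoot.lift (Ideal.Quotient.mk P) 0 (by
      rw [eval₂_at_zero]
      exact Ideal.Quotient.eq_zero_iff_mem.2 h)
  let ψ : Ax →+* A ⧸ P := φ.comp (minpoly.equivAdjoin hx).symm.toAlgHom.toRingHom
  have hψA : ∀ a : A, ψ (algebraMap A Ax a) = Ideal.Quotient.mk P a := fun a => by
    simp only [ψ, RingHom.comp_apply, AlgHom.toRingHom_eq_coe, RingHom.coe_coe, AlgEquiv.toAlgHom_eq_coe, AlgHom.commutes,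
      AdjoinRoot.algebraMap_eq, φ, AdjoinRoot.lift_of]
  have hψx : ψ xa = 0 := by
    have e : (minpoly.equivAdjoin hx).symm xa = AdjoinRoot.root (minpoly A x) := by
      rw [AlgEquiv.symm_apply_eq]
      apply Subtype.ext
      simp [xa, minpoly.equivAdjoin, AdjoinRoot.Minpoly.toAdjoin]
    simp only [ψ, RingHom.comp_apply, AlgHom.toRingHom_eq_coe, RingHom.coe_coe, AlgEquiv.toAlgHom_eq_coe, AlgEquiv.coe_algHom]
    rw [e]
    exact AdjoinRoot.lift_root _
  haveI : (RingHom.ker ψ).IsPrime := RingHom.ker_isPrime ψ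
  haveI : Algebra.IsIntegral Ax E := Algebra.IsIntegral.tower_top A
  obtain ⟨Q, -, hQ, hQ'⟩ := Ideal.exists_ideal_over_prime_of_isIntegral (RingHom.ker ψ) (⊥ : Ideal E) (by
    intro a ha
    rw [Ideal.mem_comap, Ideal.mem_bot] at ha
    have : a = 0 := Subtype.ext ha
    simp [this])
  refine ⟨Q, hQ, ?_, ?_⟩
  · ext a
    rw [Ideal.mem_comap, IsScalarTower.algebraMap_apply A Ax E, ← Ideal.mem_comap, hQ', RingHom.mem_ker, hψA,
      Ideal.Quotient.eq_zero_iff_mem]
  · have : xa ∈ RingHom.ker ψ := hψx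
    rw [← hQ', Ideal.mem_comap] at this
    exact this

/-- The norm-like element. -/
theorem exists_norm_elt_normal {D : Type u} [CommRing D] [Algebra A D] [Module.Finite A D] (c : D) :
    ∃ N : A, ∀ P : PrimeSpectrum A,
      (N ∈ P.asIdeal → ∃ Z : PrimeSpectrum D, Z.comap (algebraMap A D) = P ∧ c ∈ Z.asIdeal) ∧
      ∀ Z Z₀ : PrimeSpectrum D, Z.comap (algebraMap A D) = P → c ∈ Z.asIdeal → Z₀ ≤ Z →
        Z₀.asIdeal.comap (algebraMap A D) = ⊥ → N ∈ P.asIdeal := by
  classical
  have hfin : ((⊥ : Ideal A).primesOver D).Finite := Algebra.QuasiFinite.finite_primesOver _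
  haveI := hfin.fintype
  have hnf : ∀ q : (⊥ : Ideal A).primesOver D, Module.IsTorsionFree A (D ⧸ q.1) := fun q => by
    refine Module.isTorsionFree_iff_algebraMap_injective.2 ((injective_iff_map_eq_zero _).2 fun a ha => ?_)
    have h : algebraMap A D a ∈ q.1 := Ideal.Quotient.eq_zero_iff_mem.1 ha
    exact (Ideal.mem_bot (R := A)).1 (by rw [q.2.2.over]; exact h)
  refine ⟨∏ q : (⊥ : Ideal A).primesOver D, (minpoly A (Ideal.Quotient.mk q.1 c)).coeff 0, fun P => ⟨fun h => ?_, ?_⟩⟩
  · obtain ⟨q, -, hq⟩ := (Ideal.IsPrime.prod_mem_iff (p := P.asIdeal)).1 h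
    haveI := q.2.1
    haveI := hnf q
    obtain ⟨Q, hQ, hQP, hcQ⟩ := exists_prime_of_coeff_zero_mem (A := A) (Ideal.Quotient.mk q.1 c) P.asIdeal hq
    exact ⟨⟨Q.comap (Ideal.Quotient.mk q.1), Ideal.comap_isPrime _ _⟩, PrimeSpectrum.ext hQP, hcQ⟩
  · intro Z Z₀ hZP hcZ hle hZ₀
    let q : (⊥ : Ideal A).primesOver D := ⟨Z₀.asIdeal, Z₀.isPrime, ⟨hZ₀.symm⟩⟩
    haveI : q.1.IsPrime := Z₀.isPrime
    haveI := hnf q
    refine Ideal.mem_of_dvd _ (Finset.dvd_prod_of_mem _ (Finset.mem_univ q)) ?_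
    show (minpoly A (Ideal.Quotient.mk q.1 c)).coeff 0 ∈ P.asIdeal
    rw [← hZP, PrimeSpectrum.comap_asIdeal, Ideal.mem_comap]
    have h0 := minpoly.aeval A (Ideal.Quotient.mk q.1 c)
    rw [← Polynomial.divX_mul_X_add (minpoly A (Ideal.Quotient.mk q.1 c))] at h0
    rw [map_add, map_mul, aeval_X, aeval_C] at h0
    obtain ⟨d, hd⟩ := Ideal.Quotient.mk_surjective (aeval (Ideal.Quotient.mk q.1 c) (minpoly A (Ideal.Quotient.mk q.1 c)).divX)
    rw [← hd] at h0
    have h1 : d * c + algebraMap A D ((minpoly A (Ideal.Quotient.mk q.1 c)).coeff 0) ∈ q.1 := by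
      rw [← Ideal.Quotient.eq_zero_iff_mem, map_add, map_mul]
      exact h0
    exact (Z.asIdeal.add_mem_iff_right (Z.asIdeal.mul_mem_left d hcZ)).1 (hle h1)

end Groth.Agent.DimOneAffineLib
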