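import Groth.Agent.DimOneAffineLib.General
import Groth.Agent.DimOneAffineLib.InvBasic
import Groth.Agent.DimOneAffineLib.NormElt
import Groth.Agent.DimOneAffineLib.GenericDown
import Groth.Agent.FinGrpdLib.Sat
import Groth.Agent.S7464
import Groth.Agent.S0593

/-!
An orbit of one dimensional points of a finite groupoid on a separated locally Noetherian scheme has an
invariant affine open neighbourhood.
-/

set_option autoImplicit false
set_option backward.isDefEq.respectTransparency false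
set_option linter.style.haveILetI false

universe u

open CategoryTheory CategoryTheory.Limits AlgebraicGeometry TopologicalSpace TensorProduct

noncomputable section

namespace Groth.Agent.DimOneAffineLib

open Groth.Agent.FinGrpdLib

theorem eq_of_specializes_of_dim_le_one {X : Scheme.{u}} {x y o : X}
    (hdim : ringKrullDim (X.presheaf.stalk o) ≤ 1) (hxy : x ⤳ y) (hyo : y ⤳ o) (hne : y ≠ o) : x = y := by
  haveI : Ring.KrullDimLE 1 (X.presheaf.stalk o) := Ring.krullDimLE_iff.2 hdim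
  obtain ⟨y', hy'⟩ : y ∈ Set.range (X.fromSpecStalk o) := by rw [Scheme.range_fromSpecStalk]; exact hyo
  obtain ⟨x', hx'⟩ : x ∈ Set.range (X.fromSpecStalk o) := by
    rw [Scheme.range_fromSpecStalk]; exact hxy.trans hyo
  let x'' : PrimeSpectrum (X.presheaf.stalk o) := x'
  let y'' : PrimeSpectrum (X.presheaf.stalk o) := y'
  have hle : x''.asIdeal ≤ y''.asIdeal :=
    (PrimeSpectrum.le_iff_specializes x'' y'').2
      ((X.fromSpecStalk o).isEmbedding.isInducing.specializes_iff.1 (by rwa [hx', hy']))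
  by_contra hne'
  have hlt : x''.asIdeal < y''.asIdeal :=
    lt_of_le_of_ne hle fun e => hne' (by rw [← hx', ← hy', show x' = y' from PrimeSpectrum.ext e])
  have hlt' : y''.asIdeal < IsLocalRing.maximalIdeal (X.presheaf.stalk o) :=
    lt_of_le_of_ne (IsLocalRing.le_maximalIdeal y''.2.ne_top) fun e => hne (by
      rw [← hy', show y' = IsLocalRing.closedPoint (X.presheaf.stalk o) from PrimeSpectrum.ext e,
        Scheme.fromSpecStalk_closedPoint])
  have h2 : (2 : WithBot ℕ∞) ≤ ringKrullDim (X.presheaf.stalk o) := by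
    let l : LTSeries (PrimeSpectrum (X.presheaf.stalk o)) :=
      ((RelSeries.singleton _ (IsLocalRing.closedPoint (X.presheaf.stalk o))).cons y'' hlt').cons x''
        (by simpa using hlt)
    exact Order.le_krullDim_iff.2 ⟨l, rfl⟩
  exact absurd (h2.trans hdim) (by decide)

variable {S : Scheme.{u}} (G : Grpd.GroupoidScheme S) [IsFinite G.s] [IsFinite G.t]

theorem rel_eq_of_specializes {x y : G.U} (h : Rel G x y) (hs : y ⤳ x) : x = y := by
  obtain ⟨r, rfl, rfl⟩ := h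
  by_contra hne
  exact S7464.result S G r (Ne.symm hne) hs

variable [G.U.IsSeparated] [IsLocallyNoetherian G.U]

theorem exists_invariant_affine_of_dim_le_one (u : G.U)
    (hdim : ∀ y, Rel G y u → ringKrullDim (G.U.presheaf.stalk y) ≤ 1) :
    ∃ W : G.U.Opens, IsAffineOpen W ∧ u ∈ W ∧ G.s ⁻¹ᵁ W = G.t ⁻¹ᵁ W := by
  classical
  let O : Set G.U := {y | Rel G y u}
  have hO : O.Finite := finite_rel u
  have hOinv : ∀ {x y : G.U}, Rel G x y → y ∈ O → x ∈ O := fun hxy hy => hxy.trans hy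
  obtain ⟨V, hV, hOV⟩ := exists_affine_of_finite_dim_le_one (X := G.U) (fun U hU => by
    haveI : CompactSpace U.toScheme := isCompact_iff_compactSpace.1 hU
    haveI : IsLocallyNoetherian U.toScheme := isLocallyNoetherian_of_isOpenImmersion U.ι
    haveI : IsNoetherian U.toScheme := ⟨⟩
    exact (NoetherianSpace.finite_irreducibleComponents : (irreducibleComponents U.toScheme).Finite)) hO
    (fun y hy => ⟨inferInstance, hdim y hy⟩)
  obtain ⟨U₁, hU₁⟩ := exists_interior G V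
  have hU₁V : U₁ ≤ V := fun x hx => (hU₁ x).1 hx x (Rel.refl G x)
  have hU₁inv : ∀ {x y : G.U}, Rel G x y → y ∈ U₁ → x ∈ U₁ := fun hxy hy =>
    (hU₁ _).2 fun z hz => (hU₁ _).1 hy z (hz.trans hxy)
  have hOU₁ : O ⊆ U₁ := fun y hy => (hU₁ y).2 fun z hz => hOV (hOinv hz hy)
  haveI hnoeth : IsNoetherianRing Γ(G.U, V) := IsLocallyNoetherian.component_noetherian ⟨V, hV⟩
  have hR : IsAffineOpen (G.s ⁻¹ᵁ V) := hV.preimage G.s
  letI : Algebra Γ(G.U, V) Γ(G.R, G.s ⁻¹ᵁ V) := (G.s.appLE V (G.s ⁻¹ᵁ V) le_rfl).hom.toAlgebra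
  haveI : Module.Finite Γ(G.U, V) Γ(G.R, G.s ⁻¹ᵁ V) := by
    have h := G.s.finite_app V hV
    rw [← Scheme.Hom.appLE_eq_app] at h
    exact h
  -- the bad set
  let 𝔭 := minimalPrimes Γ(G.U, V)
  haveI : Finite 𝔭 := (minimalPrimes.finite_of_isNoetherianRing _).to_subtype
  let η : 𝔭 → G.U := fun p => hV.fromSpec (⟨p.1, Ideal.minimalPrimes_isPrime p.2⟩ : PrimeSpectrum Γ(G.U, V))
  have hdown : ∀ p : 𝔭, ∃ g ∉ p.1, ∀ (A' : Type u) [CommRing A'] [IsDomain A'] [Algebra Γ(G.U, V) A'],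
      p.1 ≤ RingHom.ker (algebraMap Γ(G.U, V) A') →
      ∀ Z : PrimeSpectrum (A' ⊗[Γ(G.U, V)] Γ(G.R, G.s ⁻¹ᵁ V)),
        algebraMap Γ(G.U, V) A' g ∉ (Z.comap (algebraMap A' (A' ⊗[Γ(G.U, V)] Γ(G.R, G.s ⁻¹ᵁ V)))).asIdeal →
        ∃ Z₀ : PrimeSpectrum (A' ⊗[Γ(G.U, V)] Γ(G.R, G.s ⁻¹ᵁ V)), Z₀ ≤ Z ∧
          Z₀.asIdeal.comap (algebraMap A' (A' ⊗[Γ(G.U, V)] Γ(G.R, G.s ⁻¹ᵁ V))) = ⊥ := fun p => by
    haveI : p.1.IsPrime := Ideal.minimalPrimes_isPrime p.2
    exact exists_goingDown_baseChange _ p.1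
  choose g hgp hgd using hdown
  let B : 𝔭 → Set G.U := fun p => closure {η p} ∩ (G.U.basicOpen (g p) : Set G.U)ᶜ
  let Bad : Set G.U := (⋃ o ∈ O, closure {o}) ∪ ⋃ p, B p
  have hBad : IsClosed Bad := (hO.isClosed_biUnion fun _ _ => isClosed_closure).union
    (isClosed_iUnion_of_finite fun p => isClosed_closure.inter (G.U.basicOpen (g p)).isOpen.isClosed_compl)
  let T : Set G.U := G.t '' (G.s ⁻¹' Bad)
  have hT : IsClosed T := G.t.isClosedMap _ (hBad.preimage G.s.continuous)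
  have hTinv : ∀ {x y : G.U}, Rel G x y → y ∈ T → x ∈ T := fun hxy hy => by
    obtain ⟨z, hz, hyz⟩ := (mem_sat G).1 hy
    exact (mem_sat G).2 ⟨z, hz, hxy.trans hyz⟩
  have hBadT : Bad ⊆ T := subset_sat G Bad
  have hOT : O ⊆ T := fun o ho => hBadT (Or.inl (Set.mem_iUnion₂.2 ⟨o, ho, subset_closure rfl⟩))
  have hηD : ∀ p : 𝔭, η p ∈ G.U.basicOpen (g p) := fun p => by
    show (⟨p.1, Ideal.minimalPrimes_isPrime p.2⟩ : PrimeSpectrum Γ(G.U, V)) ∈ hV.fromSpec ⁻¹ᵁ G.U.basicOpen (g p)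
    rw [hV.fromSpec_preimage_basicOpen]
    exact hgp p
  -- the orbit is generic in the saturated bad set
  have hmin : ∀ o ∈ O, ∀ x ∈ T, x ∈ U₁ → x ⤳ o → x = o := by
    intro o ho x hxT hxU₁ hxo
    by_contra hne
    have hxO : x ∉ O := fun hx => hne (rel_eq_of_specializes G (Rel.trans ho (Rel.symm hx)) hxo).symm
    obtain ⟨y, hyB, hxy⟩ := (mem_sat G).1 hxT
    obtain ⟨r, hrt, hrs⟩ := Rel.symm hxy
    obtain ⟨r', hrr', hr's⟩ := G.s.isClosedMap.specializingMap (hrs.symm ▸ hxo : G.s r ⤳ o)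
    have hyO : y ∉ O := fun hy => hxO (hOinv hxy hy)
    have ho' : G.t r' ∈ O := hOinv ⟨r', rfl, hr's⟩ ho
    have hyo' : y ⤳ G.t r' := hrt ▸ hrr'.map G.t.continuous
    have hgen : ∀ z, z ⤳ y → z = y := fun z hz => eq_of_specializes_of_dim_le_one (hdim _ ho') hz hyo'
      fun e => hyO (e ▸ ho')
    rcases hyB with hyB | hyB
    · obtain ⟨o', ho'', hy⟩ := Set.mem_iUnion₂.1 hyB
      exact hyO (hgen o' (specializes_iff_mem_closure.2 hy) ▸ ho'')
    · obtain ⟨p, hy, hyg⟩ := Set.mem_iUnion.1 hyB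
      exact hyg (hgen _ (specializes_iff_mem_closure.2 hy) ▸ hηD p)
  obtain ⟨h, hhU₁, hOh, hhT⟩ := exists_invariant_trace G hV hU₁V hU₁inv hT hTinv hO hOU₁ hOT hOinv hmin
  obtain ⟨W, hW⟩ := exists_interior G (G.U.basicOpen h)
  have hWh : W ≤ G.U.basicOpen h := fun x hx => (hW x).1 hx x (Rel.refl G x)
  refine ⟨W, ?_, (hW u).2 fun y hy => hOh y hy, (invariant_iff G W).2 fun {x y} hxy hx => ?_⟩
  swap
  · exact (hW y).2 fun z hz => (hW x).1 hx z (hz.trans hxy.symm)
  -- the element cutting out the saturation of the complement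
  have hsh : G.R.basicOpen ((G.s.appLE V (G.s ⁻¹ᵁ V) le_rfl).hom h) = G.s ⁻¹ᵁ G.U.basicOpen h := by
    rw [Scheme.Hom.appLE_eq_app, Scheme.preimage_basicOpen]
  set σh := (G.s.appLE V (G.s ⁻¹ᵁ V) le_rfl).hom h with hσh
  have hRt : G.R.basicOpen σh ≤ G.t ⁻¹ᵁ U₁ := fun r hr => hU₁inv ⟨r, rfl, rfl⟩ (hhU₁ (hsh.le hr))
  let γ : Γ(G.R, G.R.basicOpen σh) :=
    G.t.appLE U₁ (G.R.basicOpen σh) hRt (G.U.presheaf.map (homOfLE hU₁V).op h)
  obtain ⟨c, hc⟩ := IsAffineOpen.basicOpen_basicOpen_is_basicOpen hR σh γ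
  have hcmem : ∀ r, r ∈ G.R.basicOpen c ↔ G.s r ∈ G.U.basicOpen h ∧ G.t r ∈ G.U.basicOpen h := fun r => by
    rw [hc]
    simp only [γ, Scheme.Hom.appLE, CommRingCat.comp_apply, Scheme.basicOpen_res, ← Scheme.preimage_basicOpen]
    rw [hsh]
    change G.s r ∈ G.U.basicOpen h ∧ G.t r ∈ U₁ ⊓ G.U.basicOpen h ↔ _
    exact ⟨fun e => ⟨e.1, e.2.2⟩, fun e => ⟨e.1, hRt (hsh.ge e.1), e.2⟩⟩
  -- affineness
  have hD : IsAffineOpen (G.U.basicOpen h) := hV.basicOpen h
  let Ah := Γ(G.U, G.U.basicOpen h)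
  haveI : IsNoetherianRing Ah := IsLocallyNoetherian.component_noetherian ⟨_, hD⟩
  let f₂ := hD.fromSpec
  let W' : (Spec Ah).Opens := f₂ ⁻¹ᵁ W
  suffices hW' : IsAffineOpen W' by
    have e : f₂ ''ᵁ W' = W := by
      rw [Scheme.Hom.image_preimage_eq_opensRange_inf, hD.opensRange_fromSpec]
      exact inf_eq_right.2 hWh
    exact e ▸ hW'.image_of_isOpenImmersion f₂
  let κ := minimalPrimes Ah
  haveI : Finite κ := (minimalPrimes.finite_of_isNoetherianRing _).to_subtype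
  let qι : ∀ q : κ, Spec (CommRingCat.of (Ah ⧸ q.1)) ⟶ Spec Ah := fun q =>
    Spec.map (CommRingCat.ofHom (Ideal.Quotient.mk q.1))
  haveI : ∀ q : κ, IsClosedImmersion (qι q) := fun q =>
    IsClosedImmersion.spec_of_surjective _ Ideal.Quotient.mk_surjective
  haveI : ∀ q : κ, IsClosedImmersion (qι q ∣_ W') := fun q =>
    IsZariskiLocalAtTarget.restrict (P := @IsClosedImmersion) inferInstance W'
  haveI : ∀ q : κ, IsAffine (qι q ⁻¹ᵁ W').toScheme := fun q => by
    haveI : q.1.IsPrime := Ideal.minimalPrimes_isPrime q.2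
    let Q := Ah ⧸ q.1
    let A' := integralClosure Q (FractionRing Q)
    haveI : IsFractionRing A' (FractionRing Q) := integralClosure.isFractionRing_of_finite_extension (FractionRing Q) (FractionRing Q)
    haveI : IsIntegrallyClosed A' := integralClosure.isIntegrallyClosedOfFiniteExtension (FractionRing Q)
    let res : Γ(G.U, V) →+* Ah := (G.U.presheaf.map (homOfLE (G.U.basicOpen_le h)).op).hom
    letI : Algebra Γ(G.U, V) A' := ((algebraMap Q A').comp ((Ideal.Quotient.mk q.1).comp res)).toAlgebra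
    let π : Spec (CommRingCat.of A') ⟶ Spec (CommRingCat.of Q) := Spec.map (CommRingCat.ofHom (algebraMap Q A'))
    have hinjQ : Function.Injective (algebraMap Q A') := fun a b e =>
      IsFractionRing.injective Q (FractionRing Q) (congrArg Subtype.val e)
    haveI : IsIntegralHom π := IsIntegralHom.SpecMap_iff.2 (algebraMap_isIntegral_iff.2 inferInstance)
    haveI : AlgebraicGeometry.Surjective π := ⟨fun P => RingHom.IsIntegral.comap_surjective (algebraMap_isIntegral_iff.2 inferInstance) hinjQ P⟩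
    have hf₂ : ∀ P : PrimeSpectrum Ah, f₂ P = hV.fromSpec (PrimeSpectrum.comap res P) := fun P => by
      have e := congrArg (fun k => k P) (hV.map_fromSpec hD (homOfLE (G.U.basicOpen_le h)).op)
      simp only [Scheme.Hom.comp_apply] at e
      exact e.symm
    let q' : PrimeSpectrum Γ(G.U, V) := PrimeSpectrum.comap res ⟨q.1, inferInstance⟩
    have hq' : q'.asIdeal ∈ minimalPrimes Γ(G.U, V) := by
      refine ⟨⟨q'.2, bot_le⟩, fun I hI hle => ?_⟩
      haveI := hI.1
      have hspec : hV.fromSpec (⟨I, hI.1⟩ : PrimeSpectrum Γ(G.U, V)) ⤳ f₂ ⟨q.1, inferInstance⟩ := by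
        rw [hf₂]
        exact ((PrimeSpectrum.le_iff_specializes ⟨I, hI.1⟩ q').1 hle).map hV.fromSpec.continuous
      have hmem : hV.fromSpec (⟨I, hI.1⟩ : PrimeSpectrum Γ(G.U, V)) ∈ G.U.basicOpen h := by
        refine hspec.mem_open (G.U.basicOpen h).isOpen ?_
        exact hD.range_fromSpec ▸ (⟨_, rfl⟩ : f₂ (⟨q.1, inferInstance⟩ : PrimeSpectrum Ah) ∈ Set.range f₂)
      obtain ⟨J, hJ⟩ : hV.fromSpec (⟨I, hI.1⟩ : PrimeSpectrum Γ(G.U, V)) ∈ Set.range f₂ := by
        rw [hD.range_fromSpec]; exact hmem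
      let J' : PrimeSpectrum Ah := J
      have hJle : J'.asIdeal ≤ q.1 :=
        (PrimeSpectrum.le_iff_specializes J' ⟨q.1, inferInstance⟩).2
          (f₂.isOpenEmbedding.isInducing.specializes_iff.1 (hJ ▸ hspec))
      have hJq : J' = ⟨q.1, inferInstance⟩ :=
        PrimeSpectrum.ext (le_antisymm hJle (q.2.2 ⟨J'.2, bot_le⟩ hJle))
      rw [hf₂] at hJ
      have e2 : PrimeSpectrum.comap res J' = ⟨I, hI.1⟩ := hV.fromSpec.isOpenEmbedding.injective hJ
      exact (congrArg PrimeSpectrum.asIdeal ((congrArg (PrimeSpectrum.comap res) hJq.symm).trans e2)).le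
    let p : 𝔭 := ⟨q'.asIdeal, hq'⟩
    have hker : p.1 ≤ RingHom.ker (algebraMap Γ(G.U, V) A') := fun a ha => by
      show algebraMap Q A' (Ideal.Quotient.mk q.1 (res a)) = 0
      have h0 : Ideal.Quotient.mk q.1 (res a) = (0 : Q) := Ideal.Quotient.eq_zero_iff_mem.2 ha
      exact (congrArg (algebraMap Q A') h0).trans (map_zero _)
    let D := A' ⊗[Γ(G.U, V)] Γ(G.R, G.s ⁻¹ᵁ V)
    obtain ⟨N, hN⟩ := exists_norm_elt_normal (A := A') (D := D) ((1 : A') ⊗ₜ c)
    have hpre : π ⁻¹ᵁ (qι q ⁻¹ᵁ W') = PrimeSpectrum.basicOpen N := by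
      refine Opens.ext (Set.ext fun P => ?_)
      let P' : PrimeSpectrum A' := P
      let Pq : PrimeSpectrum Ah :=
        PrimeSpectrum.comap (Ideal.Quotient.mk q.1) (PrimeSpectrum.comap (algebraMap Q A') P')
      let PA : PrimeSpectrum Γ(G.U, V) := P'.comap (algebraMap Γ(G.U, V) A')
      have hPA : PA = PrimeSpectrum.comap res Pq := rfl
      let x := f₂ Pq
      have hxh : x ∈ G.U.basicOpen h := by
        rw [← hD.opensRange_fromSpec]; exact Set.mem_range_self _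
      have hxV : x = hV.fromSpec PA := hf₂ Pq
      change x ∈ W ↔ N ∉ P'.asIdeal
      constructor
      · intro hxW hNP
        obtain ⟨Z, hZP, hcZ⟩ := (hN P').1 hNP
        obtain ⟨Qr, hQr, hcQ⟩ := (GrpdGenericLib.exists_prime_baseChange_iff P' c).1 ⟨Z, hZP, hcZ⟩
        let r := hR.fromSpec Qr
        have hrs : G.s r = x := by
          rw [hxV]
          exact (appLE_point G.s hV hR Qr).trans (congrArg hV.fromSpec hQr)
        have hrc : r ∉ G.R.basicOpen c := fun hmem => by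
          have hmem' : Qr ∈ hR.fromSpec ⁻¹ᵁ G.R.basicOpen c := hmem
          rw [hR.fromSpec_preimage_basicOpen] at hmem'
          exact hmem' hcQ
        refine hrc ((hcmem r).2 ⟨hrs ▸ hxh, ?_⟩)
        exact (hW x).1 hxW _ ⟨r, rfl, hrs⟩
      · intro hNP
        by_contra hxW
        rw [hW] at hxW
        push Not at hxW
        obtain ⟨y, ⟨r, hrt, hrs⟩, hy⟩ := hxW
        have hrV : r ∈ G.s ⁻¹ᵁ V := show G.s r ∈ V by rw [hrs]; exact G.U.basicOpen_le h hxh
        let Qr := hR.primeIdealOf ⟨r, hrV⟩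
        have hcQ : c ∈ Qr.asIdeal := by
          by_contra hc'
          refine hy (hrt ▸ ((hcmem r).1 ?_).2)
          exact (FinGrpdLib.mem_basicOpen_iff hR hrV c).2 hc'
        have hQr : Qr.comap (algebraMap Γ(G.U, V) Γ(G.R, G.s ⁻¹ᵁ V)) = P'.comap (algebraMap Γ(G.U, V) A') := by
          apply hV.fromSpec.isOpenEmbedding.injective
          refine ((appLE_point G.s hV hR Qr).symm.trans ?_).trans hxV
          rw [hR.fromSpec_primeIdealOf]
          exact hrs
        obtain ⟨Z, hZP, hcZ⟩ := (GrpdGenericLib.exists_prime_baseChange_iff P' c).2 ⟨Qr, hQr, hcQ⟩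
        have hxT : x ∉ T := fun hxT => hy (hhT ⟨r, hrt, hrs⟩ hxT hxh)
        have hgP : algebraMap Γ(G.U, V) A' (g p) ∉ P'.asIdeal := fun hg' => by
          refine hxT (hBadT (Or.inr (Set.mem_iUnion.2 ⟨p, ?_, ?_⟩)))
          · rw [← specializes_iff_mem_closure, hxV]
            refine Specializes.map ?_ hV.fromSpec.continuous
            rw [← PrimeSpectrum.le_iff_specializes]
            intro a ha
            show algebraMap Γ(G.U, V) A' a ∈ P'.asIdeal
            rw [RingHom.mem_ker.1 (hker ha)]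
            exact Ideal.zero_mem _
          · intro hmem
            rw [hxV] at hmem
            have hmem' : PA ∈ hV.fromSpec ⁻¹ᵁ G.U.basicOpen (g p) := hmem
            rw [hV.fromSpec_preimage_basicOpen] at hmem'
            exact hmem' hg'
        obtain ⟨Z₀, hZ₀, hbot⟩ := hgd p A' hker Z (by rw [hZP]; exact hgP)
        exact hNP ((hN P').2 Z Z₀ hZP hcZ hZ₀ hbot)
    haveI : IsAffine (π ⁻¹ᵁ (qι q ⁻¹ᵁ W')).toScheme := by
      rw [hpre]; exact IsAffineOpen.Spec_basicOpen (R := CommRingCat.of A') N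
    haveI : IsIntegralHom (π ∣_ (qι q ⁻¹ᵁ W')) := inferInstance
    haveI : AlgebraicGeometry.Surjective (π ∣_ (qι q ⁻¹ᵁ W')) :=
      IsZariskiLocalAtTarget.restrict (P := @AlgebraicGeometry.Surjective) inferInstance _
    exact S0593.result _ _ (π ∣_ (qι q ⁻¹ᵁ W'))
  show IsAffine W'.toScheme
  refine S9203.result W'.toScheme (fun q : κ => (qι q ⁻¹ᵁ W').toScheme) (fun q => qι q ∣_ W') fun x => ?_
  let x' : PrimeSpectrum Ah := x.1
  haveI := x'.isPrime
  obtain ⟨q, hq, hqx⟩ := Ideal.exists_minimalPrimes_le (I := (⊥ : Ideal Ah)) (J := x'.asIdeal) bot_le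
  obtain ⟨z, hz⟩ : x' ∈ Set.range (PrimeSpectrum.comap (Ideal.Quotient.mk q)) := by
    rw [range_comap_of_surjective _ _ Ideal.Quotient.mk_surjective, Ideal.mk_ker]
    exact hqx
  have hz' : qι ⟨q, hq⟩ z = x.1 := hz
  exact ⟨⟨q, hq⟩, ⟨z, show qι ⟨q, hq⟩ z ∈ W' from hz'.symm ▸ x.2⟩,
    Subtype.ext ((morphismRestrict_base_coe (qι ⟨q, hq⟩) W' _).trans hz')⟩

end Groth.Agent.DimOneAffineLib
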