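import Groth.Agent.DimOneAffineLib.FunField
import Groth.Agent.DimOneAffineLib.Glue
import Groth.Agent.S1640

/-!
On an integral separated scheme, finitely many points with one dimensional Noetherian local rings lie
in an affine open.
-/

set_option autoImplicit false
set_option backward.isDefEq.respectTransparency false
set_option linter.style.haveILetI false

universe u

open CategoryTheory CategoryTheory.Limits AlgebraicGeometry TopologicalSpace

noncomputable section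

namespace Groth.Agent.DimOneAffineLib

open StalkSubrings

variable {X : Scheme.{u}} [IsIntegral X]

theorem inv_or_van' {y : X} {k : X.functionField} (h : k⁻¹ ∈ O X y) (hk : k ∉ O X y) : Van X y k⁻¹ :=
  van_of_mem_of_inv_notMem h (by rwa [inv_inv])

theorem inv_generic {k : X.functionField} (hk : k ≠ 0) : Inv X (genericPoint X) k := by
  refine ⟨k, IsUnit.mk0 _ hk, ?_⟩
  change (X.presheaf.stalkSpecializes ((genericPoint_spec X).specializes trivial)).hom k = k
  rw [TopCat.Presheaf.stalkSpecializes_refl]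
  rfl

variable [X.IsSeparated]

/-- The inverse of some section over `U` vanishes at a one dimensional point outside `U`. -/
theorem exists_sec_van {U : X.Opens} (hU : IsAffineOpen U) [Nonempty U] {x : X} (hx : x ∉ U)
    [IsNoetherianRing (X.presheaf.stalk x)] (hdim : ringKrullDim (X.presheaf.stalk x) ≤ 1) :
    ∃ a ∈ secs U, a ≠ 0 ∧ Van X x a⁻¹ := by
  classical
  let K := X.functionField
  let B := O X x
  let φ : X.presheaf.stalk x ≃+* B := RingEquiv.ofBijective (algebraMap (X.presheaf.stalk x) K).rangeRestrict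
    ⟨fun a b h => stalk_inj x (congrArg Subtype.val h), RingHom.rangeRestrict_surjective _⟩
  haveI : IsNoetherianRing B := isNoetherianRing_of_ringEquiv _ φ
  haveI : IsFractionRing B K := IsFractionRing.of_field B K fun z => by
    obtain ⟨c, d, -, rfl⟩ := IsFractionRing.div_surjective (X.presheaf.stalk x) z
    exact ⟨φ c, φ d, rfl⟩
  haveI : IsFractionRing (secs U) K := by
    haveI := functionField_isFractionRing_of_isAffineOpen X U hU
    refine IsFractionRing.of_field (secs U) K fun z => ?_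
    obtain ⟨c, d, -, rfl⟩ := IsFractionRing.div_surjective Γ(X, U) z
    exact ⟨⟨_, c, rfl⟩, ⟨_, d, rfl⟩, rfl⟩
  obtain ⟨_, ⟨(V : X.Opens), hV, rfl⟩, hxV, -⟩ :=
    X.isBasis_affineOpens.exists_subset_of_mem_open (Set.mem_univ x) isOpen_univ
  replace hV : IsAffineOpen V := hV
  haveI : Nonempty V := ⟨⟨x, hxV⟩⟩
  have hη : ∀ (W : X.Opens) [Nonempty W], genericPoint X ∈ W := fun W _ => genericPoint_mem' W
  -- basic opens of `V` inside `U`
  let ι := {g : Γ(X, V) // X.basicOpen g ≤ U}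
  have hcov : ∀ y ∈ U ⊓ V, ∃ g : ι, y ∈ X.basicOpen g.1 := fun y hy => by
    obtain ⟨g, hg, hyg⟩ := hV.exists_basicOpen_le ⟨y, hy.1⟩ hy.2
    exact ⟨⟨g, hg⟩, hyg⟩
  obtain ⟨G, hG⟩ := (hU.inf hV).isCompact.elim_finite_subcover (fun g : ι => (X.basicOpen g.1 : Set X))
    (fun g => (X.basicOpen g.1).isOpen) (fun y hy => Set.mem_iUnion.2 (hcov y hy))
  obtain ⟨g₀, hg₀⟩ := hcov (genericPoint X) ⟨hη U, hη V⟩
  have hvan : ∀ g : ι, Van X x (X.germToFunctionField V g.1) := fun g => by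
    rcases inv_or_van (secs_le_O hxV ⟨g.1, rfl⟩) with h | h
    · exact absurd (g.2 ((mem_basicOpen_iff g.1 hxV).2 h)) hx
    · exact h
  set b := X.germToFunctionField V g₀.1 with hbdef
  have hb0 : b ≠ 0 := ((mem_basicOpen_iff g₀.1 (hη V)).1 hg₀).ne_zero
  choose n hn using fun g : ι => exists_pow_mul_mem hdim (hvan g) b⁻¹
  choose Ω hxΩ hΩ using fun g : ι => exists_open_regular (hn g)
  let W₀ : X.Opens := V ⊓ G.inf Ω
  have hxW₀ : x ∈ W₀ := ⟨hxV, by
    rw [SetLike.mem_coe, ← SetLike.mem_coe, Opens.coe_finset_inf]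
    simp only [Finset.mem_coe, Set.mem_iInter, Function.comp_apply, Finset.inf_set_eq_iInter]
    exact fun g _ => hxΩ g⟩
  obtain ⟨_, ⟨(V₁ : X.Opens), hV₁, rfl⟩, hxV₁, hV₁W⟩ :=
    X.isBasis_affineOpens.exists_subset_of_mem_open hxW₀ W₀.isOpen
  replace hV₁ : IsAffineOpen V₁ := hV₁
  haveI : Nonempty V₁ := ⟨⟨x, hxV₁⟩⟩
  haveI : Nonempty (U ⊓ V₁ : X.Opens) := ⟨⟨genericPoint X, hη U, hη V₁⟩⟩
  have hbinv : b⁻¹ ∈ secs (U ⊓ V₁) := mem_secs fun y hy => by
    obtain ⟨g, hgG, hyg⟩ := Set.mem_iUnion₂.1 (hG (show y ∈ U ⊓ V from ⟨hy.1, (hV₁W hy.2).1⟩))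
    have hyV : y ∈ V := (hV₁W hy.2).1
    have hyΩ : y ∈ Ω g := (Finset.inf_le hgG : G.inf Ω ≤ Ω g) (hV₁W hy.2).2
    have hinv := ((mem_basicOpen_iff g.1 hyV).1 hyg).pow (n g)
    have h := mul_mem hinv.inv.mem (hΩ g y hyΩ)
    rwa [← mul_assoc, inv_mul_cancel₀ hinv.ne_zero, one_mul] at h
  have htop : secs U ⊔ B = ⊤ := eq_top_iff.2 fun k _ => by
    have h₁ : b⁻¹ ∈ secs U ⊔ B := sup_le_sup_left (secs_le_O hxV₁) _ (secs_inf hU hV₁ hbinv)
    obtain ⟨m, hm⟩ := exists_pow_mul_mem hdim (hvan g₀) k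
    have h₂ := mul_mem (pow_mem h₁ m) ((le_sup_right : B ≤ secs U ⊔ B) hm)
    rwa [← mul_assoc, ← mul_pow, inv_mul_cancel₀ hb0, one_pow, one_mul] at h₂
  have hdim1 : ringKrullDim B = 1 := by
    haveI : IsDomain (X.presheaf.stalk x) := inferInstance
    rw [← ringKrullDim_eq_of_ringEquiv φ]
    refine le_antisymm hdim ?_
    by_contra hlt
    have h0 : Ring.KrullDimLE 0 (X.presheaf.stalk x) := by
      rw [Ring.krullDimLE_iff]
      exact Order.le_of_lt_succ (not_le.1 hlt)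
    have hfield : IsField (X.presheaf.stalk x) := Ring.KrullDimLE.isField_of_isDomain
    refine hx ?_
    have hle : O X (genericPoint X) ≤ O X x := by
      rintro k -
      letI := hfield.toField
      obtain ⟨c, d, -, rfl⟩ := IsFractionRing.div_surjective (X.presheaf.stalk x) k
      exact ⟨c / d, map_div₀ _ _ _⟩
    have he : x ⤳ genericPoint X := specializes_of_le X hle
    exact he.mem_open U.isOpen (hη U)
  haveI : IsLocalRing B := φ.isLocalRing
  obtain ⟨a, haA, ha0, ha⟩ := S1640.result K (secs U) 1 (fun _ => B) (fun _ => hdim1)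
    (fun _ => inferInstance) (fun _ => htop)
  obtain ⟨ha', haJ⟩ := ha 0
  refine ⟨a, haA, ha0, ?_⟩
  obtain ⟨t, ht⟩ := ha'
  refine ⟨t, fun htu => ?_, ht⟩
  rw [IsLocalRing.jacobson_eq_maximalIdeal (⊥ : Ideal B) bot_ne_top] at haJ
  exact haJ ((congrArg IsUnit (Subtype.ext ht : φ t = ⟨a⁻¹, ⟨t, ht⟩⟩)).mp (htu.map φ))

/-- An affine open containing finitely many nongeneric points may be enlarged to contain one further
one dimensional point. -/
theorem exists_affine_insert {U : X.Opens} (hU : IsAffineOpen U) [Nonempty U] (S : Set X) (hS : S.Finite)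
    (hSU : S ⊆ U) (hSη : genericPoint X ∉ S) {x : X} (hx : x ∉ U)
    [IsNoetherianRing (X.presheaf.stalk x)] (hdim : ringKrullDim (X.presheaf.stalk x) ≤ 1) :
    ∃ W : X.Opens, IsAffineOpen W ∧ x ∈ W ∧ S ⊆ W := by
  classical
  obtain ⟨_, ⟨(V : X.Opens), hV, rfl⟩, hxV, -⟩ :=
    X.isBasis_affineOpens.exists_subset_of_mem_open (Set.mem_univ x) isOpen_univ
  replace hV : IsAffineOpen V := hV
  haveI : Nonempty V := ⟨⟨x, hxV⟩⟩
  have hη : ∀ (W : X.Opens) [Nonempty W], genericPoint X ∈ W := fun W _ => genericPoint_mem' W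
  obtain ⟨a₀, ha₀U, ha₀, ha₀x⟩ := exists_sec_van hU hx hdim
  -- a function on `U` vanishing on `S` and outside `V`
  obtain ⟨r, hrη, hrF⟩ := exists_fun_vanishing hU (F := (V : Set X)ᶜ ∪ ⋃ s ∈ S, closure {s})
    (V.isOpen.isClosed_compl.union (hS.isClosed_biUnion fun s _ => isClosed_closure))
    {genericPoint X} (Set.finite_singleton _) (Set.singleton_subset_iff.2 (hη U)) (by
      rintro y rfl (hy | hy)
      · exact hy (hη V)
      · obtain ⟨s, hs, hys⟩ := Set.mem_iUnion₂.1 hy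
        have h2 : genericPoint X ⤳ s := (genericPoint_spec X).specializes trivial
        exact hSη ((h2.antisymm (specializes_iff_mem_closure.2 hys)).eq ▸ hs))
  set ρ := X.germToFunctionField U r with hρdef
  have hρU : ρ ∈ secs U := ⟨r, rfl⟩
  have hρ0 : ρ ≠ 0 := ((mem_basicOpen_iff r (hη U)).1 (hrη _ rfl)).ne_zero
  have hρV : ∀ y ∈ U, Inv X y ρ → y ∈ V := fun y hy h => by
    by_contra hyV
    exact hrF y (Or.inl hyV) ((mem_basicOpen_iff r hy).2 h)
  have hρS : ∀ s ∈ S, Van X s ρ := fun s hs =>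
    (inv_or_van (secs_le_O (hSU hs) hρU)).resolve_left fun h => hrF s
      (Or.inr (Set.mem_iUnion₂.2 ⟨s, hs, subset_closure rfl⟩)) ((mem_basicOpen_iff r (hSU hs)).2 h)
  -- the function `f`
  obtain ⟨n, hn⟩ := exists_pow_mul_mem hdim ha₀x ρ⁻¹
  set P := ρ * a₀ ^ (n + 1) with hPdef
  have hP0 : P ≠ 0 := mul_ne_zero hρ0 (pow_ne_zero _ ha₀)
  have hPx : Van X x P⁻¹ := by
    have e : P⁻¹ = a₀⁻¹ * (a₀⁻¹ ^ n * ρ⁻¹) := by
      rw [hPdef, mul_inv, ← inv_pow, pow_succ]; ring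
    rw [e]
    exact ha₀x.mul hn
  have hPU : P ∈ secs U := mul_mem hρU (pow_mem ha₀U _)
  set a := 1 + P with hadef
  have haU : a ∈ secs U := add_mem (one_mem _) hPU
  have hax : Inv X x (1 + P⁻¹) := (inv_one x).add hPx
  have ha' : a = P * (1 + P⁻¹) := by rw [hadef, mul_add, mul_one, mul_inv_cancel₀ hP0, add_comm]
  have ha : a ≠ 0 := by rw [ha']; exact mul_ne_zero hP0 hax.ne_zero
  set f := a⁻¹ with hfdef
  have hfx : Van X x f := by rw [hfdef, ha', mul_inv]; exact hPx.mul hax.inv.mem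
  have hf1 : 1 - f = P * f := by
    calc 1 - f = a * f - f := by rw [hfdef, mul_inv_cancel₀ ha]
      _ = P * f := by rw [hadef]; ring
  obtain ⟨A, hA⟩ := haU
  let U' := X.basicOpen A
  have hSU' : ∀ s ∈ S, s ∈ U' ∧ Van X s P := fun s hs => by
    have h : Van X s P := (hρS s hs).mul (pow_mem (secs_le_O (hSU hs) ha₀U) _)
    refine ⟨(mem_basicOpen_iff A (hSU hs)).2 ?_, h⟩
    rw [hA]
    exact (inv_one s).add h
  have hmemU' : ∀ y, y ∈ U' ↔ y ∈ U ∧ Inv X y a := fun y =>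
    ⟨fun h => ⟨X.basicOpen_le A h, hA ▸ (mem_basicOpen_iff A (X.basicOpen_le A h)).1 h⟩,
      fun h => (mem_basicOpen_iff A h.1).2 (hA.symm ▸ h.2)⟩
  haveI : Nonempty U' := ⟨⟨genericPoint X, (hmemU' _).2 ⟨hη U, inv_generic ha⟩⟩⟩
  have hU' : IsAffineOpen U' := hU.basicOpen A
  -- a function on `V` confining `f`
  obtain ⟨i, hiU, hiη⟩ := hV.exists_basicOpen_le ⟨genericPoint X, hη U⟩ (hη V)
  have hi0 : X.germToFunctionField V i ≠ 0 := ((mem_basicOpen_iff i (hη V)).1 hiη).ne_zero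
  obtain ⟨m, hm⟩ := exists_pow_mul_mem hdim hfx (X.germToFunctionField V i)⁻¹
  obtain ⟨Ω₁, hxΩ₁, hΩ₁⟩ := exists_open_regular hm
  obtain ⟨Ω₂, hxΩ₂, hΩ₂⟩ := exists_open_regular hfx.mem
  obtain ⟨b, hbΩ, hxb⟩ := hV.exists_basicOpen_le ⟨x, hxΩ₁, hxΩ₂⟩ hxV (V := Ω₁ ⊓ Ω₂)
  let V' := X.basicOpen b
  haveI : Nonempty V' := ⟨⟨x, hxb⟩⟩
  have hV' : IsAffineOpen V' := hV.basicOpen b
  set β := X.germToFunctionField V b with hβdef
  have hfV' : ∀ y ∈ V', y ∉ U → Van X y f := fun y hy hyU => by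
    have hfy : f ∈ O X y := hΩ₂ y (hbΩ hy).2
    rcases inv_or_van hfy with h | h
    · exfalso
      have hyV := X.basicOpen_le b hy
      have hi : Van X y (X.germToFunctionField V i) :=
        (inv_or_van (secs_le_O hyV ⟨i, rfl⟩)).resolve_left fun h' => hyU (hiU ((mem_basicOpen_iff i hyV).2 h'))
      have h2 := hi.mul (hΩ₁ y (hbΩ hy).1)
      rw [mul_left_comm, mul_inv_cancel₀ hi0, mul_one] at h2
      exact not_inv_of_van h2 (h.pow m)
    · exact h
  have hfU' : ∀ y ∈ U', Inv X y f := fun y hy => ((hmemU' y).1 hy).2.inv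
  have hf_iff : ∀ y, y ∈ U' ∨ y ∈ V' → (Inv X y f ↔ y ∈ U') := by
    rintro y hy
    refine ⟨fun h => hy.elim id fun hyV' => ?_, hfU' y⟩
    by_cases hyU : y ∈ U
    · refine (hmemU' y).2 ⟨hyU, ?_⟩
      rw [show a = f⁻¹ from (inv_inv a).symm]
      exact h.inv
    · exact absurd h (not_inv_of_van (hfV' y hyV' hyU))
  -- the second function
  haveI : Nonempty (U' ⊔ V' : X.Opens) := ⟨⟨x, Or.inr hxb⟩⟩
  obtain ⟨F, hF⟩ : f ∈ secs (U' ⊔ V') := mem_secs fun y hy => hy.elim (fun h => (hfU' y h).mem)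
    fun h => hΩ₂ y (hbΩ h).2
  have hPO : ∀ y ∈ U', 1 - f ∈ O X y := fun y hy => sub_mem (one_mem _) (hfU' y hy).mem
  obtain ⟨T, hT⟩ : 1 - f ∈ secs U' := mem_secs hPO
  let D := X.basicOpen T
  have hDV : D ≤ V := fun y hy => by
    have hyU' := X.basicOpen_le T hy
    have h := (mem_basicOpen_iff T hyU').1 hy
    rw [hT, hf1, hPdef, mul_assoc] at h
    exact hρV y ((hmemU' y).1 hyU').1 (h.of_mul (secs_le_O ((hmemU' y).1 hyU').1 hρU)
      (mul_mem (pow_mem (secs_le_O ((hmemU' y).1 hyU').1 ha₀U) _) (hfU' y hyU').mem))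
  haveI : IsLocalization.Away T Γ(X, D) := hU'.isLocalization_basicOpen T
  obtain ⟨M, g₀, hg₀⟩ := IsLocalization.Away.surj T (X.presheaf.map (homOfLE hDV).op b)
  have hg₀K : X.germToFunctionField U' g₀ = (1 - f) ^ M * β := by
    rw [← hT, ← map_pow]
    have hT0 : X.germToFunctionField U' T ≠ 0 := by rw [hT, hf1]; exact mul_ne_zero hP0 (inv_ne_zero ha)
    have hDη : genericPoint X ∈ D := (mem_basicOpen_iff T (hη U')).2 (inv_generic hT0)
    haveI : Nonempty D := ⟨⟨_, hDη⟩⟩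
    have h := congrArg (X.germToFunctionField D) hg₀
    rw [map_mul, map_pow] at h
    have e : ∀ {W : X.Opens} [Nonempty W] (hW : D ≤ W) (s : Γ(X, W)),
        X.germToFunctionField D (X.presheaf.map (homOfLE hW).op s) = X.germToFunctionField W s :=
      fun hW s => TopCat.Presheaf.germ_res_apply X.presheaf _ _ _ s
    rw [map_pow]
    refine ((e (X.basicOpen_le T) g₀).symm.trans ?_)
    rw [hβdef, ← e (X.basicOpen_le T) T, ← e hDV b, mul_comm]
    exact h.symm
  set g := (1 - f) ^ (M + 1) * β with hgdef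
  have hgU' : ∀ y ∈ U', g ∈ O X y := fun y hy => by
    rw [hgdef, pow_succ', mul_assoc, ← hg₀K]
    exact mul_mem (hPO y hy) (secs_le_O hy ⟨g₀, rfl⟩)
  have hβV : ∀ y ∈ V, β ∈ O X y := fun y hy => secs_le_O hy ⟨b, rfl⟩
  obtain ⟨G, hG⟩ : g ∈ secs (U' ⊔ V') := mem_secs fun y hy => hy.elim (hgU' y) fun h =>
    mul_mem (pow_mem (sub_mem (one_mem _) (hΩ₂ y (hbΩ h).2)) _) (hβV y (X.basicOpen_le b h))
  have hgV' : ∀ y ∈ U' ⊔ V', Inv X y g → y ∈ V' := fun y hy h => hy.elim (fun hyU' => by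
    have hfac : g = (1 - f) * ((1 - f) ^ M * β) := by rw [hgdef, pow_succ', mul_assoc]
    have h1 : Inv X y (1 - f) := (hfac ▸ h : Inv X y _).of_mul (hPO y hyU')
      (hg₀K ▸ secs_le_O hyU' ⟨g₀, rfl⟩)
    have hyD : y ∈ D := (mem_basicOpen_iff T hyU').2 (hT.symm ▸ h1)
    refine (mem_basicOpen_iff b (hDV hyD)).2 ?_
    rw [hgdef, mul_comm] at h
    exact h.of_mul (hβV y (hDV hyD)) (pow_mem (hPO y hyU') _)) id
  -- the open
  set e := f + g with hedef
  let E := F + G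
  have hE : X.germToFunctionField (U' ⊔ V') E = e := by rw [map_add, hF, hG]
  let W := X.basicOpen E
  have hxW : x ∈ W := by
    refine (mem_basicOpen_iff E (Or.inr hxb)).2 ?_
    rw [hE, hedef, add_comm]
    refine Inv.add ?_ hfx
    refine (Inv.pow ?_ _).mul ((mem_basicOpen_iff b hxV).1 hxb)
    rw [sub_eq_add_neg]
    exact (inv_one x).add (by simpa using hfx.mul (neg_mem (one_mem (O X x))))
  have hSW : S ⊆ W := fun s hs => by
    obtain ⟨hsU', hsP⟩ := hSU' s hs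
    refine (mem_basicOpen_iff E (Or.inl hsU')).2 ?_
    rw [hE, hedef]
    refine (hfU' s hsU').add ?_
    rw [hgdef, pow_succ', mul_assoc, ← hg₀K]
    refine Van.mul ?_ (secs_le_O hsU' ⟨g₀, rfl⟩)
    rw [hf1]
    exact hsP.mul (hfU' s hsU').mem
  refine ⟨W, ?_, hxW, hSW⟩
  have hFW : X.basicOpen F = U' := by
    refine le_antisymm (fun y hy => ?_) fun y hy => ?_
    · have hy' := X.basicOpen_le F hy
      exact (hf_iff y hy').1 (hF ▸ (mem_basicOpen_iff F hy').1 hy)
    · exact (mem_basicOpen_iff F (Or.inl hy)).2 (hF.symm ▸ hfU' y hy)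
  have hGW : X.basicOpen G ≤ V' := fun y hy =>
    hgV' y (X.basicOpen_le G hy) (hG ▸ (mem_basicOpen_iff G (X.basicOpen_le G hy)).1 hy)
  let ρW := X.presheaf.map (homOfLE (X.basicOpen_le E)).op
  refine isAffineOpen_of_isAffineOpen_basicOpen W {ρW F, ρW G} ?_ ?_
  · have hu : IsUnit (ρW E) := RingedSpace.isUnit_res_basicOpen X.toRingedSpace E
    refine Ideal.eq_top_of_isUnit_mem _ ?_ hu
    rw [map_add]
    exact add_mem (Ideal.subset_span (Or.inl rfl)) (Ideal.subset_span (Or.inr rfl))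
  · have key : ∀ (H : Γ(X, U' ⊔ V')) (T : X.Opens) (hT : T ≤ U' ⊔ V'), IsAffineOpen T → X.basicOpen H ≤ T →
        IsAffineOpen (X.basicOpen (ρW H)) := by
      intro H T hT hTaff hle
      have e1 : X.basicOpen (ρW H) = X.basicOpen (X.presheaf.map (homOfLE hT).op (E * H)) := by
        show X.basicOpen (X.presheaf.map _ H) = _
        rw [Scheme.basicOpen_res, Scheme.basicOpen_res, Scheme.basicOpen_mul]
        exact (inf_eq_right.2 (inf_le_right.trans hle)).symm
      rw [e1]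
      exact hTaff.basicOpen _
    rintro _ (rfl | rfl)
    · exact key F U' le_sup_left hU' hFW.le
    · exact key G V' le_sup_right hV' hGW

/-- On an integral separated scheme finitely many points with Noetherian local rings of dimension at most
one lie in an affine open. -/
theorem exists_affine_of_finite (S : Set X) (hS : S.Finite)
    (h : ∀ x ∈ S, IsNoetherianRing (X.presheaf.stalk x) ∧ ringKrullDim (X.presheaf.stalk x) ≤ 1) :
    ∃ U : X.Opens, IsAffineOpen U ∧ S ⊆ U := by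
  suffices key : ∃ U : X.Opens, IsAffineOpen U ∧ Nonempty U ∧ S \ {genericPoint X} ⊆ U by
    obtain ⟨U, hU, hne, hSU⟩ := key
    refine ⟨U, hU, fun y hy => ?_⟩
    by_cases hyη : y = genericPoint X
    · exact hyη ▸ genericPoint_mem' U
    · exact hSU ⟨hy, hyη⟩
  induction S, hS using Set.Finite.induction_on with
  | empty =>
    obtain ⟨_, ⟨(V : X.Opens), hV, rfl⟩, hxV, -⟩ :=
      X.isBasis_affineOpens.exists_subset_of_mem_open (Set.mem_univ (genericPoint X)) isOpen_univ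
    exact ⟨V, hV, ⟨⟨_, hxV⟩⟩, by simp⟩
  | @insert x T hxT hT ih =>
    obtain ⟨U, hU, hne, hTU⟩ := ih fun y hy => h y (Or.inr hy)
    by_cases hxU : x = genericPoint X ∨ x ∈ U
    · refine ⟨U, hU, hne, ?_⟩
      rintro y ⟨rfl | hy, hyη⟩
      · exact hxU.resolve_left hyη
      · exact hTU ⟨hy, hyη⟩
    push Not at hxU
    obtain ⟨hn, hd⟩ := h x (Or.inl rfl)
    obtain ⟨W, hW, hxW, hTW⟩ := exists_affine_insert hU (T \ {genericPoint X}) hT.sdiff hTU
      (fun hη => hη.2 rfl) hxU.2 hd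
    refine ⟨W, hW, ⟨⟨x, hxW⟩⟩, ?_⟩
    rintro y ⟨rfl | hy, hyη⟩
    · exact hxW
    · exact hTW ⟨hy, hyη⟩

end Groth.Agent.DimOneAffineLib
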